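import Mathlib.LinearAlgebra.Dimension.Finrank
import Mathlib.LinearAlgebra.FiniteDimensional.Lemmas
import Mathlib.Algebra.BigOperators.Intervals

/-! Filtrations with steps of dimension at most one. -/

namespace Groth.Agent.LLS31

open Module

variable {k V : Type*} [Field k] [AddCommGroup V] [Module k V]

/-- A finite antitone filtration with steps of dimension at most one. -/
structure IsStepFiltration (G : ℕ → Submodule k V) (d : ℕ) : Prop where
  mono : ∀ n, G (n + 1) ≤ G n
  bot : G (d + 1) = ⊥
  fin : FiniteDimensional k ↥(G 0)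
  step : ∀ n, finrank k ↥(G n) ≤ finrank k ↥(G (n + 1)) + 1

namespace IsStepFiltration

variable {G : ℕ → Submodule k V} {d : ℕ}

theorem finite (h : IsStepFiltration G d) (n : ℕ) : FiniteDimensional k ↥(G n) := by
  have := h.fin
  have hle : G n ≤ G 0 := antitone_nat_of_succ_le h.mono (Nat.zero_le n)
  exact Submodule.finiteDimensional_of_le hle

/-- The jump set of the filtration. -/
noncomputable def jumps (G : ℕ → Submodule k V) (d : ℕ) : Finset ℕ :=
  open scoped Classical in (Finset.range (d + 1)).filter fun n => G (n + 1) ≠ G n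

theorem finrank_succ (h : IsStepFiltration G d) {n : ℕ} (hn : G (n + 1) ≠ G n) :
    finrank k ↥(G n) = finrank k ↥(G (n + 1)) + 1 := by
  have := h.finite n
  have h1 : finrank k ↥(G (n + 1)) < finrank k ↥(G n) :=
    Submodule.finrank_lt_finrank_of_lt (lt_of_le_of_ne (h.mono n) hn)
  have h2 := h.step n
  omega

theorem card_filter_jumps (h : IsStepFiltration G d) (n : ℕ) (hn : n ≤ d + 1) :
    ((jumps G d).filter fun m => n ≤ m).card = finrank k ↥(G n) := by
  classical
  induction hn using Nat.decreasingInduction with
  | self =>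
    rw [h.bot, finrank_bot, Finset.card_eq_zero, Finset.filter_eq_empty_iff]
    intro m hm
    simp only [jumps, Finset.mem_filter, Finset.mem_range] at hm
    omega
  | of_succ n hn ih =>
    by_cases hj : G (n + 1) = G n
    · rw [← hj, ← ih]
      congr 1
      refine Finset.filter_congr fun m hm => ?_
      simp only [jumps, Finset.mem_filter, Finset.mem_range] at hm
      have : m ≠ n := by rintro rfl; exact hm.2 hj
      omega
    · rw [h.finrank_succ hj, ← ih]
      have hmem : n ∈ jumps G d := by
        simp only [jumps, Finset.mem_filter, Finset.mem_range]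
        exact ⟨by omega, hj⟩
      have : (jumps G d).filter (fun m => n ≤ m) =
          insert n ((jumps G d).filter fun m => n + 1 ≤ m) := by
        ext m
        simp only [Finset.mem_filter, Finset.mem_insert]
        constructor
        · rintro ⟨h1, h2⟩
          rcases eq_or_ne m n with rfl | h3
          · exact Or.inl rfl
          · exact Or.inr ⟨h1, by omega⟩
        · rintro (rfl | ⟨h1, h2⟩)
          · exact ⟨hmem, le_rfl⟩
          · exact ⟨h1, by omega⟩
      rw [this, Finset.card_insert_of_notMem]
      simp

theorem card_jumps (h : IsStepFiltration G d) : (jumps G d).card = finrank k ↥(G 0) := by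
  rw [← h.card_filter_jumps 0 (by omega)]
  simp

theorem sum_jumps (h : IsStepFiltration G d) :
    ∑ m ∈ jumps G d, m = ∑ n ∈ Finset.range d, finrank k ↥(G (n + 1)) := by
  classical
  have h1 : ∀ n ∈ Finset.range d,
      finrank k ↥(G (n + 1)) = ∑ m ∈ jumps G d, if n + 1 ≤ m then 1 else 0 := by
    intro n hn
    rw [Finset.mem_range] at hn
    rw [← h.card_filter_jumps (n + 1) (by omega), Finset.card_filter]
  rw [Finset.sum_congr rfl h1, Finset.sum_comm]
  refine Finset.sum_congr rfl fun m hm => ?_
  simp only [jumps, Finset.mem_filter, Finset.mem_range] at hm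
  rw [← Finset.card_filter]
  have : (Finset.range d).filter (fun n => n + 1 ≤ m) = Finset.range m := by
    ext x
    simp only [Finset.mem_filter, Finset.mem_range]
    omega
  rw [this, Finset.card_range]

/-- An adapted basis: vectors with distinct orders `m i`. -/
theorem exists_adapted (h : IsStepFiltration G d) (r : ℕ) (hr : finrank k ↥(G 0) = r + 1) :
    ∃ (m : Fin (r + 1) → ℕ) (v : Fin (r + 1) → V), Function.Injective m ∧ (∀ i, m i ≤ d) ∧
      (∀ i, v i ∈ G (m i) ∧ v i ∉ G (m i + 1)) ∧ LinearIndependent k v ∧
      Submodule.span k (Set.range v) = G 0 ∧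
      ∑ i, m i = ∑ n ∈ Finset.range d, finrank k ↥(G (n + 1)) := by
  classical
  have hc : (jumps G d).card = r + 1 := h.card_jumps.trans hr
  let e := ((jumps G d).equivFinOfCardEq hc).symm
  have hmem : ∀ i, (e i : ℕ) ≤ d ∧ G ((e i : ℕ) + 1) ≠ G (e i : ℕ) := by
    intro i
    have := (e i).2
    simp only [jumps, Finset.mem_filter, Finset.mem_range] at this
    exact ⟨by omega, this.2⟩
  have hv : ∀ i, ∃ v, v ∈ G (e i : ℕ) ∧ v ∉ G ((e i : ℕ) + 1) := fun i =>
    SetLike.exists_of_lt (lt_of_le_of_ne (h.mono _) (hmem i).2)
  choose v hv using hv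
  have hinj : Function.Injective fun i => (e i : ℕ) :=
    Subtype.val_injective.comp e.injective
  have hanti := antitone_nat_of_succ_le h.mono
  have hli : LinearIndependent k v := by
    rw [Fintype.linearIndependent_iff]
    intro g hg
    by_contra hne
    have hne' : (Finset.univ.filter fun i => g i ≠ 0).Nonempty := by
      push Not at hne
      obtain ⟨i, hi⟩ := hne
      exact ⟨i, by simpa using hi⟩
    obtain ⟨i, hi, hmin⟩ := Finset.exists_min_image _ (fun i => (e i : ℕ)) hne'
    simp only [Finset.mem_filter, Finset.mem_univ, true_and] at hi hmin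
    have hrest : ∑ j ∈ Finset.univ.erase i, g j • v j ∈ G ((e i : ℕ) + 1) := by
      refine Submodule.sum_mem _ fun j hj => ?_
      simp only [Finset.mem_erase, Finset.mem_univ, and_true] at hj
      by_cases hgj : g j = 0
      · simp [hgj]
      · have h1 := hmin j hgj
        have h2 : (e j : ℕ) ≠ (e i : ℕ) := fun h => hj (hinj h)
        exact Submodule.smul_mem _ _ (hanti (by omega) (hv j).1)
    have hsum := Finset.add_sum_erase Finset.univ (fun j => g j • v j) (Finset.mem_univ i)
    rw [hg] at hsum
    have : g i • v i ∈ G ((e i : ℕ) + 1) := by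
      rw [show g i • v i = -∑ j ∈ Finset.univ.erase i, g j • v j from
        eq_neg_of_add_eq_zero_left hsum]
      exact Submodule.neg_mem _ hrest
    rw [Submodule.smul_mem_iff _ hi] at this
    exact (hv i).2 this
  refine ⟨fun i => (e i : ℕ), v, hinj, fun i => (hmem i).1, hv, hli, ?_, ?_⟩
  · have := h.fin
    refine Submodule.eq_of_le_of_finrank_eq (Submodule.span_le.2 ?_) ?_
    · rintro _ ⟨i, rfl⟩
      exact hanti (Nat.zero_le _) (hv i).1
    · rw [finrank_span_eq_card hli, Fintype.card_fin, hr]
  · rw [← h.sum_jumps, ← Finset.sum_coe_sort (jumps G d)]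
    exact Fintype.sum_equiv e _ _ fun i => rfl

end IsStepFiltration

/-- `r + 1` distinct natural numbers sum to at least `r (r + 1) / 2`. -/
theorem sum_fin_le_sum_of_injective {N : ℕ} (m : Fin N → ℕ) (hm : Function.Injective m) :
    ∑ i : Fin N, (i : ℕ) ≤ ∑ i, m i := by
  classical
  induction N with
  | zero => simp
  | succ N ih =>
    obtain ⟨i₀, -, hmax⟩ := Finset.exists_max_image (Finset.univ : Finset (Fin (N + 1))) m
      Finset.univ_nonempty
    rw [Fin.sum_univ_castSucc, Fin.sum_univ_succAbove _ i₀, Fin.val_last]
    have h1 : N ≤ m i₀ := by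
      have := Finset.card_le_card_of_injOn m (s := (Finset.univ : Finset (Fin (N + 1))))
        (t := Finset.range (m i₀ + 1))
        (fun j _ => by
          have := hmax j (Finset.mem_univ j)
          simpa [Nat.lt_succ_iff] using this) hm.injOn
      simpa using this
    have h2 := ih (m ∘ i₀.succAbove) (hm.comp Fin.succAbove_right_injective)
    simp only [Fin.val_castSucc, Function.comp] at h2 ⊢
    omega

end Groth.Agent.LLS31
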