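import Groth.Agent.LLS31.Basic
import Groth.Agent.LLS31.Filtration
import Mathlib.Algebra.Order.BigOperators.Group.Finset

/-! Vanishing sequences of one linear series and pairs of places. -/

namespace Groth.Agent.LLS31

open FunFld Module Finset

variable {k K : Type*} [Field k] [Field K] [Algebra k K]

/-- `V(-nP)`. -/
noncomputable def van (V : Submodule k K) (D : Divisor k K) (P : Place k K) (n : ℤ) : Submodule k K :=
  V ⊓ L (D - Finsupp.single P n)

/-- The sum of the vanishing orders of `V` at `P`, as `∑_{n=1}^d dim V(-nP)`. -/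
noncomputable def S (V : Submodule k K) (D : Divisor k K) (P : Place k K) (d : ℕ) : ℕ :=
  ∑ n ∈ Finset.range d, finrank k ↥(van V D P ((n : ℤ) + 1))

theorem deg_sub (D E : Divisor k K) : (D - E).deg = D.deg - E.deg := by
  unfold Divisor.deg
  exact Finsupp.sum_sub_index fun P a b => sub_mul _ _ _

theorem deg_single (P : Place k K) (n : ℤ) :
    Divisor.deg (Finsupp.single P n) = n * (P.deg : ℤ) := by
  unfold Divisor.deg
  exact Finsupp.sum_single_index (zero_mul _)

theorem deg_place_eq_one [IsAlgClosed k] (hK : IsFunctionField k K) (P : Place k K) :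
    P.deg = 1 := by
  refine finrank_eq_one 1 one_ne_zero fun w => ?_
  obtain ⟨y, rfl⟩ := IsLocalRing.residue_surjective w
  obtain ⟨c, hc⟩ := exists_val_sub_lt_one hK P ((P.1.mem_valuationSubring_iff _).1 y.2)
  refine ⟨c, ?_⟩
  show IsLocalRing.residue P.O (algebraMap k P.O c) * 1 = IsLocalRing.residue P.O y
  rw [mul_one]
  symm
  show Ideal.Quotient.mk (IsLocalRing.maximalIdeal P.O) y =
    Ideal.Quotient.mk (IsLocalRing.maximalIdeal P.O) (algebraMap k P.O c)
  refine (Ideal.Quotient.eq).2 ?_
  rw [IsLocalRing.mem_maximalIdeal, mem_nonunits_iff]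
  intro hu
  obtain ⟨u, hu⟩ := hu.exists_right_inv
  have h1 := congrArg (fun z : P.O => P.1 (z : K)) hu
  simp only [MulMemClass.coe_mul, OneMemClass.coe_one, map_mul, map_one,
    AddSubgroupClass.coe_sub] at h1
  have h2 : P.1 (u : K) ≤ 1 := (P.1.mem_valuationSubring_iff _).1 u.2
  exact absurd h1 (ne_of_lt ((mul_le_of_le_one_right' h2).trans_lt hc))

theorem deg_sub_single [IsAlgClosed k] (hK : IsFunctionField k K) (D : Divisor k K)
    (P : Place k K) (n : ℤ) : (D - Finsupp.single P n).deg = D.deg - n := by
  rw [deg_sub, deg_single, deg_place_eq_one hK P]; simp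

theorem van_zero {V : Submodule k K} {D : Divisor k K} (hV : V ≤ L D) (P : Place k K) :
    van V D P 0 = V := by simp [van, hV]

theorem van_antitone (V : Submodule k K) (D : Divisor k K) (P : Place k K) {m n : ℤ} (h : m ≤ n) :
    van V D P n ≤ van V D P m := inf_le_inf_left _ (L_sub_single_mono D P h)

/-- A linear series of dimension `r` and degree `d` on a function field over an algebraically
closed field in which divisors of negative degree have no sections. -/
structure IsSeries (k : Type*) {K : Type*} [Field k] [Field K] [Algebra k K]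
    (D : Divisor k K) (V : Submodule k K) (d r : ℕ) : Prop where
  isAlgClosed : IsAlgClosed k
  ff : IsFunctionField k K
  neg : ∀ E : Divisor k K, E.deg < 0 → L E = ⊥
  deg : D.deg = d
  le : V ≤ L D
  rank : finrank k V = r + 1

namespace IsSeries

variable {D : Divisor k K} {V : Submodule k K} {d r : ℕ}

theorem finite (h : IsSeries k D V d r) : FiniteDimensional k V :=
  Module.finite_of_finrank_pos (by rw [h.rank]; omega)

theorem finite_van (h : IsSeries k D V d r) (P : Place k K) (n : ℤ) :
    FiniteDimensional k ↥(van V D P n) :=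
  have := h.finite; Submodule.finiteDimensional_of_le inf_le_left

theorem van_eq_bot (h : IsSeries k D V d r) (P : Place k K) {n : ℤ} (hn : (d : ℤ) < n) :
    van V D P n = ⊥ := by
  have := h.isAlgClosed
  rw [eq_bot_iff]
  refine inf_le_right.trans (le_of_eq (h.neg _ ?_))
  rw [deg_sub_single h.ff, h.deg]; omega

theorem van_step (h : IsSeries k D V d r) (P : Place k K) (n : ℤ) :
    finrank k ↥(van V D P n) ≤ finrank k ↥(van V D P (n + 1)) + 1 := by
  have := h.isAlgClosed
  have := h.finite
  have h1 := finrank_inf_L_le_succ h.ff V (D - Finsupp.single P n) P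
  rwa [sub_sub, ← Finsupp.single_add] at h1

theorem isStepFiltration (h : IsSeries k D V d r) (P : Place k K) :
    IsStepFiltration (fun n : ℕ => van V D P n) d := by
  refine ⟨fun n => van_antitone V D P (by omega), h.van_eq_bot P (by omega), h.finite_van P _,
    fun n => ?_⟩
  simpa using h.van_step P n

/-- The vanishing orders are distinct. -/
theorem half_le_S (h : IsSeries k D V d r) (P : Place k K) : r * (r + 1) / 2 ≤ S V D P d := by
  obtain ⟨m, -, hm, -, -, -, -, hs⟩ := (h.isStepFiltration P).exists_adapted r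
    (by rw [Nat.cast_zero, van_zero h.le]; exact h.rank)
  have := sum_fin_le_sum_of_injective m hm
  rw [Fin.sum_univ_eq_sum_range (fun i => i), Finset.sum_range_id, Nat.add_sub_cancel,
    Nat.mul_comm] at this
  exact this.trans (le_of_eq (hs.trans (Finset.sum_congr rfl fun n _ => by rw [Nat.cast_succ])))

theorem van_ge (h : IsSeries k D V d r) (P : Place k K) (a : ℤ) (j : ℕ) :
    finrank k ↥(van V D P a) ≤ finrank k ↥(van V D P (a + j)) + j := by
  induction j with
  | zero => rw [Nat.cast_zero, add_zero, add_zero]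
  | succ j ih =>
    have := h.van_step P (a + j)
    rw [add_assoc] at this
    push_cast
    omega

/-- A cusp forces weight at least `r`. -/
theorem half_add_le_S_of_cusp (h : IsSeries k D V d r) (P : Place k K)
    (hcusp : r ≤ finrank k ↥(van V D P 2)) : r + r * (r + 1) / 2 ≤ S V D P d := by
  rcases Nat.eq_zero_or_pos r with rfl | hr
  · simp
  have h2 : ∀ j : ℕ, r ≤ finrank k ↥(van V D P ((j : ℤ) + 2)) + j := fun j => by
    have := h.van_ge P 2 j
    rw [add_comm (2 : ℤ) j] at this
    omega
  have hrd : r + 1 ≤ d := by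
    by_contra hlt
    have := h2 (r - 1)
    rw [h.van_eq_bot P (by omega), finrank_bot] at this
    omega
  have h1 : r ≤ finrank k ↥(van V D P 1) :=
    have := h.finite_van P 1
    hcusp.trans (Submodule.finrank_mono (van_antitone V D P (by omega)))
  have hS : ∑ n ∈ range (r + 1), finrank k ↥(van V D P ((n : ℤ) + 1)) ≤ S V D P d :=
    Finset.sum_le_sum_of_subset (Finset.range_subset_range.2 hrd)
  rw [Finset.sum_range_succ'] at hS
  rw [Nat.cast_zero, zero_add, Finset.sum_congr rfl
    (g := fun j : ℕ => finrank k ↥(van V D P ((j : ℤ) + 1 + 1)))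
    (fun j _ => by rw [Nat.cast_succ])] at hS
  have hlow : ∑ j ∈ range r, (r - j) ≤
      ∑ j ∈ range r, finrank k ↥(van V D P ((j : ℤ) + 1 + 1)) := by
    refine Finset.sum_le_sum fun j _ => ?_
    have := h2 j
    rw [add_assoc, one_add_one_eq_two]
    omega
  have hsum : ∑ j ∈ range r, (r - j) = r * (r + 1) / 2 := by
    rw [← Finset.sum_range_reflect, Finset.sum_congr rfl (g := fun j => j + 1)
      (fun j hj => by rw [Finset.mem_range] at hj; omega)]
    have h' := Finset.sum_range_succ' (fun i => i) r
    rw [Finset.sum_range_id, Nat.add_sub_cancel, Nat.mul_comm] at h'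
    omega
  omega

/-- Two places: complementary vanishing spaces are independent. -/
theorem van_add_van_le (h : IsSeries k D V d r) {P Q : Place k K} (hPQ : P ≠ Q) (m n : ℤ)
    (hmn : (d : ℤ) < m + n) :
    finrank k ↥(van V D P m) + finrank k ↥(van V D Q n) ≤ r + 1 := by
  have := h.isAlgClosed
  have := h.finite
  have := h.finite_van P m
  have := h.finite_van Q n
  have hd : Disjoint (van V D P m) (van V D Q n) := by
    rw [disjoint_iff, eq_bot_iff]
    intro x hx
    have hbot : L (D - Finsupp.single P m - Finsupp.single Q n) = ⊥ := by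
      refine h.neg _ ?_
      rw [deg_sub_single h.ff, deg_sub_single h.ff, h.deg]; omega
    rw [← hbot]
    intro R
    by_cases hR : R = Q
    · subst hR
      simpa [Finsupp.single_eq_of_ne hPQ.symm] using hx.2.2 R
    · simpa [Finsupp.single_eq_of_ne hR] using hx.1.2 R
  rw [← h.rank, ← Submodule.finrank_sup_add_finrank_inf_eq, disjoint_iff.1 hd, finrank_bot,
    add_zero]
  exact Submodule.finrank_mono (sup_le inf_le_left inf_le_left)

theorem S_reflect (P : Place k K) :
    S V D P d = ∑ n ∈ range d, finrank k ↥(van V D P ((d : ℤ) + 1 - ((n : ℤ) + 1))) := by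
  rw [S, ← Finset.sum_range_reflect]
  refine Finset.sum_congr rfl fun n hn => ?_
  rw [Finset.mem_range] at hn
  rw [show ((d - 1 - n : ℕ) : ℤ) + 1 = (d : ℤ) + 1 - ((n : ℤ) + 1) by omega]

theorem S_add_S_le (h : IsSeries k D V d r) {P Q : Place k K} (hPQ : P ≠ Q) :
    S V D P d + S V D Q d ≤ (r + 1) * d := by
  rw [S, S_reflect Q, ← Finset.sum_add_distrib]
  refine (Finset.sum_le_sum (g := fun _ => r + 1) fun n _ => h.van_add_van_le hPQ _ _ (by omega))
    |>.trans (le_of_eq ?_)
  simp [mul_comm]

end IsSeries

/-- Compatible aspects at a node have complementary weights. -/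
theorem S_add_S_of_compat {K' : Type*} [Field K'] [Algebra k K']
    {D : Divisor k K} {V : Submodule k K} {D' : Divisor k K'} {V' : Submodule k K'} {d r : ℕ}
    (P : Place k K) (Q : Place k K')
    (hc : ∀ n : ℕ, n ≤ d + 1 →
      finrank k ↥(van V D P n) + finrank k ↥(van V' D' Q ((d : ℤ) + 1 - n)) = r + 1) :
    S V D P d + S V' D' Q d = (r + 1) * d := by
  rw [S, IsSeries.S_reflect Q, ← Finset.sum_add_distrib,
    Finset.sum_congr rfl (g := fun _ => r + 1) fun n hn => ?_]
  · simp [mul_comm]
  · rw [Finset.mem_range] at hn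
    simpa using hc (n + 1) (by omega)

end Groth.Agent.LLS31
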