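import Groth.Prelude.Def_W4bk4goldsch23FF
import Mathlib.RingTheory.Valuation.LocalSubring
import Mathlib.RingTheory.AlgebraicIndependent.TranscendenceBasis
import Mathlib.RingTheory.AlgebraicIndependent.AlgebraicClosure
import Mathlib.FieldTheory.IsAlgClosed.Basic
import Mathlib.LinearAlgebra.FiniteDimensional.Lemmas

/-! Places of function fields over an algebraically closed field: residues and one-step drops. -/

namespace Groth.Agent.LLS31

open FunFld Polynomial Module

variable {k K : Type*} [Field k] [Field K] [Algebra k K]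

theorem val_algebraMap (P : Place k K) {c : k} (hc : c ≠ 0) : P.1 (algebraMap k K c) = 1 := by
  refine le_antisymm (P.2.1 c) ?_
  have h1 := P.2.1 c⁻¹
  rw [map_inv₀, map_inv₀] at h1
  have h0 : P.1 (algebraMap k K c) ≠ 0 := by simpa using hc
  exact (inv_le_one₀ (zero_lt_iff.2 h0)).1 h1

theorem val_aeval_eq_one_of_forall [IsAlgClosed k] (P : Place k K) (y : K)
    (h : ∀ c : k, P.1 (y - algebraMap k K c) = 1) (q : k[X]) (hq : q ≠ 0) :
    P.1 (aeval y q) = 1 := by
  rw [(IsAlgClosed.splits q).eq_prod_roots, map_mul, aeval_C, map_mul,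
    val_algebraMap P (leadingCoeff_ne_zero.2 hq), one_mul, map_multiset_prod, map_multiset_prod,
    Multiset.map_map, Multiset.map_map]
  refine Multiset.prod_eq_one fun a ha => ?_
  obtain ⟨c, -, rfl⟩ := Multiset.mem_map.1 ha
  simp [h]

theorem isAlgebraic_adjoin_of_transcendental (hK : IsFunctionField k K) {y : K}
    (hy : Transcendental k y) :
    Algebra.IsAlgebraic (IntermediateField.adjoin k ({y} : Set K)) K := by
  obtain ⟨⟨x, -, hfin⟩, -⟩ := hK
  have h1 : Algebra.IsAlgebraic (Algebra.adjoin k ({x} : Set K)) K :=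
    IntermediateField.isAlgebraic_adjoin_iff_top.1 (Algebra.IsAlgebraic.of_finite _ _)
  have h2 : Algebra.trdeg k K ≤ 1 :=
    (Algebra.IsAlgebraic.trdeg_le_cardinalMk (R := k) (A := K) (s := ({x} : Set K))).trans (by simp)
  have h3 : AlgebraicIndependent k ![y] := algebraicIndependent_unique_type_iff.2 (by simpa using hy)
  have h4 := (h3.isTranscendenceBasis_of_lift_trdeg_le_of_finite (by simpa using h2)).isAlgebraic_field
  rwa [Matrix.range_cons, Matrix.range_empty, Set.union_empty] at h4

/-- Over an algebraically closed field every place is rational. -/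
theorem exists_val_sub_lt_one [IsAlgClosed k] (hK : IsFunctionField k K) (P : Place k K) {y : K}
    (hy : P.1 y ≤ 1) : ∃ c : k, P.1 (y - algebraMap k K c) < 1 := by
  by_contra hcon
  push Not at hcon
  have h1 : ∀ c : k, P.1 (y - algebraMap k K c) = 1 := fun c =>
    le_antisymm ((P.1.map_sub _ _).trans (max_le hy (P.2.1 c))) (hcon c)
  have htr : Transcendental k y := by
    rintro ⟨q, hq, h0⟩
    have := val_aeval_eq_one_of_forall P y h1 q hq
    simp [h0] at this
  have := isAlgebraic_adjoin_of_transcendental hK htr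
  have hsub : ∀ z ∈ IntermediateField.adjoin k ({y} : Set K), P.1 z ≤ 1 := by
    intro z hz
    obtain ⟨a, b, rfl⟩ := (IntermediateField.mem_adjoin_simple_iff k z).1 hz
    rcases eq_or_ne b 0 with rfl | hb
    · simp
    rcases eq_or_ne a 0 with rfl | ha
    · simp
    rw [map_div₀, val_aeval_eq_one_of_forall P y h1 a ha, val_aeval_eq_one_of_forall P y h1 b hb]
    simp
  obtain ⟨z, hz⟩ := P.2.2 (WithZero.exp 1)
  let f : IntermediateField.adjoin k ({y} : Set K) →+* P.O :=
    (algebraMap _ K).codRestrict P.O fun w => (P.1.mem_valuationSubring_iff _).2 (hsub _ w.2)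
  let :=  f.toAlgebra
  have : IsScalarTower (IntermediateField.adjoin k ({y} : Set K)) P.O K :=
    IsScalarTower.of_algebraMap_eq fun w => rfl
  have h2 : IsIntegral P.O z :=
    (Algebra.IsIntegral.isIntegral (R := IntermediateField.adjoin k ({y} : Set K)) z).tower_top
  obtain ⟨w, hw⟩ := IsIntegrallyClosed.isIntegral_iff.1 h2
  have h3 : P.1 z ≤ 1 := by rw [← hw]; exact (P.1.mem_valuationSubring_iff _).1 w.2
  rw [hz, ← WithZero.exp_zero, WithZero.exp_le_exp] at h3
  omega

theorem exists_uniformizer (P : Place k K) : ∃ t : K, P.1 t = WithZero.exp (-1) := P.2.2 _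

theorem le_exp_sub_one_of_lt {a : WithZero (Multiplicative ℤ)} {n : ℤ} (h : a < WithZero.exp n) :
    a ≤ WithZero.exp (n - 1) := by
  rcases eq_or_ne a 0 with rfl | ha
  · simp
  rw [← WithZero.exp_log ha, WithZero.exp_lt_exp] at h
  rw [← WithZero.exp_log ha, WithZero.exp_le_exp]
  omega

/-- Residue degree one: congruence modulo the next power of the maximal ideal. -/
theorem exists_smul_sub_le [IsAlgClosed k] (hK : IsFunctionField k K) (P : Place k K) {x z : K}
    {n : ℤ} (hx : P.1 x = WithZero.exp n) (hz : P.1 z ≤ WithZero.exp n) :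
    ∃ c : k, P.1 (z - c • x) ≤ WithZero.exp (n - 1) := by
  have hx0 : x ≠ 0 := by
    rintro rfl
    rw [map_zero] at hx
    exact WithZero.exp_ne_zero hx.symm
  obtain ⟨c, hc⟩ := exists_val_sub_lt_one hK P (y := z / x) (by
    rw [map_div₀, hx]; exact (div_le_one₀ (WithZero.exp_pos)).2 hz)
  refine ⟨c, le_exp_sub_one_of_lt ?_⟩
  have : z - c • x = (z / x - algebraMap k K c) * x := by
    rw [Algebra.smul_def, sub_mul, div_mul_cancel₀ _ hx0]
  rw [this, map_mul, hx]
  exact mul_lt_of_lt_one_left WithZero.exp_pos hc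

theorem L_mono {D E : Divisor k K} (h : D ≤ E) : L D ≤ L E := fun _ hx P =>
  (hx P).trans (WithZero.exp_le_exp.2 (h P))

theorem sub_single_le (D : Divisor k K) (P : Place k K) {m n : ℤ} (h : m ≤ n) :
    D - Finsupp.single P n ≤ D - Finsupp.single P m :=
  sub_le_sub_left (Finsupp.single_le_single.2 h) D

theorem L_sub_single_mono (D : Divisor k K) (P : Place k K) {m n : ℤ} (h : m ≤ n) :
    L (D - Finsupp.single P n) ≤ L (D - Finsupp.single P m) := L_mono (sub_single_le D P h)

/-- Lowering the bound at one place by one costs at most one dimension. -/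
theorem finrank_inf_L_le_succ [IsAlgClosed k] (hK : IsFunctionField k K) (V : Submodule k K)
    [FiniteDimensional k V] (D : Divisor k K) (P : Place k K) :
    finrank k ↥(V ⊓ L D) ≤ finrank k ↥(V ⊓ L (D - Finsupp.single P 1)) + 1 := by
  classical
  have hle : V ⊓ L (D - Finsupp.single P 1) ≤ V ⊓ L D :=
    inf_le_inf_left _ (L_mono (sub_le_self _ (Finsupp.single_nonneg.2 zero_le_one)))
  have : FiniteDimensional k ↥(V ⊓ L D) := Submodule.finiteDimensional_of_le inf_le_left
  by_cases hx : ∃ x ∈ V ⊓ L D, P.1 x = WithZero.exp (D P)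
  · obtain ⟨x, hxm, hxv⟩ := hx
    have hsup : V ⊓ L D ≤ (V ⊓ L (D - Finsupp.single P 1)) ⊔ Submodule.span k {x} := by
      intro z hz
      obtain ⟨c, hc⟩ := exists_smul_sub_le hK P hxv (hz.2 P)
      refine Submodule.mem_sup.2 ⟨z - c • x, ⟨?_, fun R => ?_⟩, c • x,
        Submodule.smul_mem _ _ (Submodule.mem_span_singleton_self x), sub_add_cancel _ _⟩
      · exact Submodule.sub_mem _ hz.1 (Submodule.smul_mem _ _ hxm.1)
      · by_cases hR : R = P
        · subst hR
          simpa using hc
        · rw [Finsupp.sub_apply, Finsupp.single_eq_of_ne hR, sub_zero]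
          exact Submodule.sub_mem _ hz.2 (Submodule.smul_mem _ _ hxm.2) R
    have : FiniteDimensional k ↥(V ⊓ L (D - Finsupp.single P 1)) :=
      Submodule.finiteDimensional_of_le inf_le_left
    refine (Submodule.finrank_mono hsup).trans
      ((Submodule.finrank_add_le_finrank_add_finrank _ _).trans ?_)
    gcongr
    exact (finrank_span_le_card ({x} : Set K)).trans (by simp)
  · push Not at hx
    have hle' : V ⊓ L D ≤ V ⊓ L (D - Finsupp.single P 1) := by
      intro z hz
      refine ⟨hz.1, fun R => ?_⟩
      by_cases hR : R = P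
      · subst hR
        simpa using le_exp_sub_one_of_lt (lt_of_le_of_ne (hz.2 R) (hx z hz))
      · rw [Finsupp.sub_apply, Finsupp.single_eq_of_ne hR, sub_zero]
        exact hz.2 R
    have : FiniteDimensional k ↥(V ⊓ L (D - Finsupp.single P 1)) :=
      Submodule.finiteDimensional_of_le inf_le_left
    exact (Submodule.finrank_mono hle').trans (Nat.le_succ _)

end Groth.Agent.LLS31
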