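import Groth.Agent.LLS31.Chain

/-! Sections with divisor supported at two places; consequences of a cusp in genus zero. -/

namespace Groth.Agent.LLS31

open FunFld Module Finset

variable {k K : Type*} [Field k] [Field K] [Algebra k K]
  {D : Divisor k K} {V : Submodule k K} {d r : ℕ}

theorem eq_exp_of_mem_L_deg_zero [IsAlgClosed k] (hK : IsFunctionField k K)
    (hneg : ∀ E : Divisor k K, E.deg < 0 → L E = ⊥) {E : Divisor k K} (hE : E.deg = 0) {x : K}
    (hx : x ∈ L E) (hx0 : x ≠ 0) (P : Place k K) : P.1 x = WithZero.exp (E P) := by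
  by_contra hne
  have hmem : x ∈ L (E - Finsupp.single P 1) := by
    intro R
    by_cases hR : R = P
    · subst hR
      simpa using le_exp_sub_one_of_lt (lt_of_le_of_ne (hx R) hne)
    · simpa [Finsupp.single_eq_of_ne hR] using hx R
  rw [hneg _ (by rw [deg_sub_single hK, hE]; omega)] at hmem
  exact hx0 ((Submodule.mem_bot k).1 hmem)

theorem ord_eq_of_val_eq {P : Place k K} {x : K} {n : ℤ} (h : P.1 x = WithZero.exp n) :
    P.ord x = -n := by
  rw [Place.ord, h, WithZero.log_exp]

/-- A nonzero element of some `L D` has only finitely many zeros and poles. -/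
theorem finite_support_ord_of_mem_L [IsAlgClosed k] (hK : IsFunctionField k K)
    (hneg : ∀ E : Divisor k K, E.deg < 0 → L E = ⊥) {x : K} (hx : x ∈ L D) (hx0 : x ≠ 0) :
    (Function.support fun P : Place k K => P.ord x).Finite := by
  classical
  by_contra hinf
  let U : Set (Place k K) := Function.support (fun P => P.ord x) \ ↑D.support
  have hU : U.Infinite := Set.Infinite.sdiff hinf (Finset.finite_toSet _)
  obtain ⟨F, hF, hFc⟩ := hU.exists_subset_card_eq (D.deg.toNat + 1)
  let E : Divisor k K := ∑ P ∈ F, Finsupp.single P (1 : ℤ)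
  have hE : ∀ P, E P = if P ∈ F then (1 : ℤ) else 0 := by
    intro P
    simp only [E, Finsupp.finsetSum_apply, Finsupp.single_apply, Finset.sum_ite_eq']
  have hdegE : E.deg = F.card := by
    simp only [E, Divisor.deg]
    rw [← Finsupp.sum_finsetSum_index (fun _ => zero_mul _) fun _ a b => add_mul a b _]
    simp [deg_place_eq_one hK]
  have hmem : x ∈ L (D - E) := by
    intro P
    rw [Finsupp.sub_apply, hE]
    split_ifs with hP
    · obtain ⟨h1, h2⟩ := hF hP
      have h3 : D P = 0 := by simpa using h2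
      rw [h3]
      have h4 := hx P
      rw [h3] at h4
      refine le_exp_sub_one_of_lt (lt_of_le_of_ne h4 fun he => h1 ?_)
      simp [ord_eq_of_val_eq he]
    · rw [sub_zero]; exact hx P
  rw [hneg _ (by rw [deg_sub, hdegE, hFc]; omega)] at hmem
  exact hx0 ((Submodule.mem_bot k).1 hmem)

theorem div_apply_of_mem_L [IsAlgClosed k] (hK : IsFunctionField k K)
    (hneg : ∀ E : Divisor k K, E.deg < 0 → L E = ⊥) {x : K} (hx : x ∈ L D) (hx0 : x ≠ 0)
    (P : Place k K) : FunFld.div k x P = P.ord x := by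
  rw [FunFld.div, dif_pos (finite_support_ord_of_mem_L hK hneg hx hx0)]
  rfl

namespace IsSeries

/-- Members of maximal total vanishing at two places have an explicit divisor. -/
theorem exists_exact (h : IsSeries k D V d r) {P Q : Place k K} (hPQ : P ≠ Q) (n : ℤ)
    (hn : r + 2 ≤ finrank k ↥(van V D P n) + finrank k ↥(van V D Q ((d : ℤ) - n))) :
    ∃ x ∈ V, x ≠ 0 ∧ P.1 x = WithZero.exp (D P - n) ∧ Q.1 x = WithZero.exp (D Q - ((d : ℤ) - n)) ∧
      ∀ R : Place k K, R ≠ P → R ≠ Q → R.1 x = WithZero.exp (D R) := by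
  have := h.isAlgClosed
  have := h.finite
  have := h.finite_van P n
  have := h.finite_van Q ((d : ℤ) - n)
  have h1 := Submodule.finrank_sup_add_finrank_inf_eq (van V D P n) (van V D Q ((d : ℤ) - n))
  have h2 : finrank k ↥(van V D P n ⊔ van V D Q ((d : ℤ) - n)) ≤ r + 1 :=
    h.rank ▸ Submodule.finrank_mono (sup_le inf_le_left inf_le_left)
  obtain ⟨x, hx, hx0⟩ : ∃ x ∈ van V D P n ⊓ van V D Q ((d : ℤ) - n), x ≠ 0 := by
    refine Submodule.exists_mem_ne_zero_of_ne_bot fun hb => ?_
    rw [hb, finrank_bot] at h1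
    omega
  have hxE : x ∈ L (D - Finsupp.single P n - Finsupp.single Q ((d : ℤ) - n)) := by
    intro R
    by_cases hR : R = Q
    · subst hR
      simpa [Finsupp.single_eq_of_ne hPQ.symm] using hx.2.2 R
    · simpa [Finsupp.single_eq_of_ne hR] using hx.1.2 R
  have hdeg : (D - Finsupp.single P n - Finsupp.single Q ((d : ℤ) - n)).deg = 0 := by
    rw [deg_sub_single h.ff, deg_sub_single h.ff, h.deg]; ring
  have hv := eq_exp_of_mem_L_deg_zero h.ff h.neg hdeg hxE hx0
  refine ⟨x, hx.1.1, hx0, ?_, ?_, fun R h1 h2 => ?_⟩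
  · simpa [Finsupp.single_eq_of_ne hPQ] using hv P
  · simpa [Finsupp.single_eq_of_ne hPQ.symm] using hv Q
  · simpa [Finsupp.single_eq_of_ne h1, Finsupp.single_eq_of_ne h2] using hv R

/-- Large weights at two places make a multiple of their difference principal. -/
theorem exists_principal_multiple (h : IsSeries k D V d r) {P Q : Place k K} (hPQ : P ≠ Q)
    (hw : (r + 1) * d + 1 ≤ S V D P d + S V D Q d + r) :
    ∃ m : ℕ, 1 ≤ m ∧ m ≤ d ∧ ∃ x : K, x ≠ 0 ∧
      FunFld.div k x = Finsupp.single Q (m : ℤ) - Finsupp.single P (m : ℤ) := by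
  classical
  have := h.isAlgClosed
  let f : ℕ → ℕ := fun n => finrank k ↥(van V D P n) + finrank k ↥(van V D Q ((d : ℤ) - n))
  let G := (Finset.range (d + 1)).filter fun n => r + 2 ≤ f n
  have hle : ∀ n ∈ Finset.range (d + 1), f n ≤ r + 1 + (if r + 2 ≤ f n then 1 else 0) := by
    intro n _
    have h1 := h.van_add_van_le hPQ (n : ℤ) ((d : ℤ) - n + 1) (by omega)
    have h2 := h.van_step Q ((d : ℤ) - n)
    split_ifs with hf <;> simp only [f] at hf ⊢ <;> omega
  have hsum := Finset.sum_le_sum hle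
  have hP : ∑ n ∈ range (d + 1), finrank k ↥(van V D P n) = S V D P d + (r + 1) := by
    rw [Finset.sum_range_succ', Nat.cast_zero, van_zero h.le, h.rank,
      Finset.sum_congr rfl (g := fun n : ℕ => finrank k ↥(van V D P ((n : ℤ) + 1)))
        fun n _ => by rw [Nat.cast_succ]]
    rfl
  have hQ : ∑ n ∈ range (d + 1), finrank k ↥(van V D Q ((d : ℤ) - n)) = S V D Q d + (r + 1) := by
    rw [Finset.sum_range_succ, sub_self, van_zero h.le, h.rank, S_reflect Q,
      Finset.sum_congr rfl (g := fun n : ℕ => finrank k ↥(van V D Q ((d : ℤ) + 1 - ((n : ℤ) + 1))))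
        fun n _ => by rw [show (d : ℤ) + 1 - ((n : ℤ) + 1) = (d : ℤ) - n by ring]]
  rw [Finset.sum_add_distrib, hP, hQ, Finset.sum_add_distrib, ← Finset.card_filter,
    Finset.sum_const, Finset.card_range, smul_eq_mul] at hsum
  have hG : 2 ≤ G.card := by
    simp only [G, f] at hsum ⊢
    rw [add_mul, one_mul, mul_comm d (r + 1)] at hsum
    omega
  obtain ⟨a, ha, b, hb, hab⟩ := Finset.one_lt_card.1 hG
  wlog hlt : a < b generalizing a b
  · exact this b hb a ha hab.symm (by omega)
  simp only [G, f, Finset.mem_filter, Finset.mem_range] at ha hb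
  obtain ⟨x, -, hx0, hxP, hxQ, hxR⟩ := h.exists_exact hPQ _ ha.2
  obtain ⟨y, -, hy0, hyP, hyQ, hyR⟩ := h.exists_exact hPQ _ hb.2
  refine ⟨b - a, by omega, by omega, x / y, div_ne_zero hx0 hy0, ?_⟩
  have hord : ∀ R : Place k K, R.ord (x / y) =
      (Finsupp.single Q ((b - a : ℕ) : ℤ) - Finsupp.single P ((b - a : ℕ) : ℤ)) R := by
    intro R
    by_cases h1 : R = P
    · subst h1
      rw [ord_eq_of_val_eq (by rw [map_div₀, hxP, hyP, ← WithZero.exp_sub]),
        Finsupp.sub_apply, Finsupp.single_eq_of_ne hPQ, Finsupp.single_eq_same]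
      omega
    by_cases h2 : R = Q
    · subst h2
      rw [ord_eq_of_val_eq (by rw [map_div₀, hxQ, hyQ, ← WithZero.exp_sub]),
        Finsupp.sub_apply, Finsupp.single_eq_of_ne hPQ.symm, Finsupp.single_eq_same]
      omega
    rw [ord_eq_of_val_eq (by rw [map_div₀, hxR R h1 h2, hyR R h1 h2, ← WithZero.exp_sub]),
      Finsupp.sub_apply, Finsupp.single_eq_of_ne h1, Finsupp.single_eq_of_ne h2]
    omega
  have hfin : (Function.support fun R : Place k K => R.ord (x / y)).Finite := by
    rw [funext hord]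
    exact Finsupp.hasFiniteSupport _
  ext R
  rw [FunFld.div, dif_pos hfin]
  exact hord R

end IsSeries

theorem S_pencil_ge {x : K} (hx : x ∈ V) (hx0 : x ≠ 0) [FiniteDimensional k V] (P : Place k K)
    (m : ℕ) (hm : m ≤ d) (hmem : x ∈ L (D - Finsupp.single P (m : ℤ))) : m ≤ S V D P d := by
  have h1 : ∀ n ∈ Finset.range m, 1 ≤ finrank k ↥(van V D P ((n : ℤ) + 1)) := by
    intro n hn
    rw [Finset.mem_range] at hn
    have : FiniteDimensional k ↥(van V D P ((n : ℤ) + 1)) :=
      Submodule.finiteDimensional_of_le inf_le_left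
    refine Submodule.one_le_finrank_iff.2 fun hb => hx0 ?_
    have : x ∈ van V D P ((n : ℤ) + 1) := ⟨hx, L_sub_single_mono D P (by omega) hmem⟩
    rw [hb] at this
    exact (Submodule.mem_bot k).1 this
  refine le_trans ?_ (Finset.sum_le_sum_of_subset (Finset.range_subset_range.2 hm))
  calc m = ∑ n ∈ Finset.range m, 1 := by simp
    _ ≤ _ := Finset.sum_le_sum h1

/-- On a rational component, two members with divisor supported at two places away from a cusp
are proportional. -/
theorem IsGenusZero.eq_smul_of_supported [CharZero k] (h : IsGenusZero k K)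
    (hs : IsSeries k D V d r) {Q P P' : Place k K} (hcusp : r ≤ finrank k ↥(van V D Q 2))
    (hP : P ≠ Q) (hP' : P' ≠ Q) {f g : K} (hf : f ∈ V) (hg : g ∈ V) (hf0 : f ≠ 0) (hg0 : g ≠ 0)
    (hfs : ∀ R : Place k K, R ≠ P → R ≠ P' → R.1 f = WithZero.exp (D R))
    (hgs : ∀ R : Place k K, R ≠ P → R ≠ P' → R.1 g = WithZero.exp (D R)) :
    ∃ c : k, g = c • f := by
  classical
  have := h.isAlgClosed
  have := hs.finite
  by_cases hPP : P = P'
  · subst hPP
    obtain ⟨n, hn⟩ : ∃ n, P.1 g = P.1 f * WithZero.exp n := ⟨WithZero.log (P.1 g) - WithZero.log (P.1 f), by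
      conv_lhs => rw [← WithZero.exp_log (x := P.1 g) (by simpa using hg0)]
      conv_rhs => arg 1; rw [← WithZero.exp_log (x := P.1 f) (by simpa using hf0)]
      rw [← WithZero.exp_add, add_sub_cancel]⟩
    have hmem : g / f ∈ L (Finsupp.single P n : Divisor k K) := by
      intro R
      by_cases hR : R = P
      · subst hR
        rw [Finsupp.single_eq_same, map_div₀, hn, mul_div_cancel_left₀ _ (by simpa using hf0)]
      · simp [Finsupp.single_eq_of_ne hR, hfs R hR hR, hgs R hR hR]
    have hd : Divisor.deg (Finsupp.single P n : Divisor k K) = n := by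
      rw [deg_single, deg_place_eq_one h.ff P]; simp
    rcases lt_trichotomy n 0 with hn0 | rfl | hn0
    · rw [h.neg _ (by rw [hd]; exact hn0), Submodule.mem_bot] at hmem
      exact absurd hmem (div_ne_zero hg0 hf0)
    · have h1 : (1 : K) ∈ L (Finsupp.single P (0 : ℤ) : Divisor k K) := fun R => by simp
      have h2 := h.finrank_L_eq P 0 (Finsupp.single P (0 : ℤ) : Divisor k K) hd
      obtain ⟨c, hc⟩ := exists_smul_eq_of_finrank_eq_one h2
        (x := (⟨1, h1⟩ : L (Finsupp.single P (0 : ℤ) : Divisor k K)))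
        (fun h0 => one_ne_zero (α := K) (congrArg Subtype.val h0)) ⟨g / f, hmem⟩
      refine ⟨c, ?_⟩
      have h3 : c • (1 : K) = g / f := congrArg Subtype.val hc
      rw [eq_div_iff hf0, smul_mul_assoc, one_mul] at h3
      exact h3.symm
    · have hmem' : f / g ∈ L (Finsupp.single P (-n) : Divisor k K) := by
        intro R
        by_cases hR : R = P
        · subst hR
          rw [Finsupp.single_eq_same, map_div₀, hn, WithZero.exp_neg,
            div_mul_cancel_left₀ (by simpa using hf0)]
        · simp [Finsupp.single_eq_of_ne hR, hfs R hR hR, hgs R hR hR]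
      rw [h.neg _ (by rw [deg_single, deg_place_eq_one h.ff P]; simp; omega),
        Submodule.mem_bot] at hmem'
      exact absurd hmem' (div_ne_zero hf0 hg0)
  have hdecomp : ∃ c : k, g - c • f ∈ van V D Q 2 := by
    have hfn : f ∉ van V D Q 2 := fun hm => by
      have h1 := hm.2 Q
      rw [hfs Q hP.symm hP'.symm, Finsupp.sub_apply, Finsupp.single_eq_same,
        WithZero.exp_le_exp] at h1
      omega
    have := hs.finite_van Q 2
    have hlt : van V D Q 2 < van V D Q 2 ⊔ Submodule.span k {f} :=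
      left_lt_sup.2 fun hle => hfn (hle (Submodule.mem_span_singleton_self f))
    have h1 := Submodule.finrank_lt_finrank_of_lt hlt
    have htop : van V D Q 2 ⊔ Submodule.span k {f} = V := Submodule.eq_of_le_of_finrank_le
      (sup_le inf_le_left ((Submodule.span_singleton_le_iff_mem _ _).2 hf)) (by rw [hs.rank]; omega)
    obtain ⟨y, hy, z, hz, hyz⟩ := Submodule.mem_sup.1 (htop.symm ▸ hg)
    obtain ⟨c, rfl⟩ := Submodule.mem_span_singleton.1 hz
    exact ⟨c, by rwa [← hyz, add_sub_cancel_right]⟩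
  obtain ⟨c, hc⟩ := hdecomp
  refine ⟨c, sub_eq_zero.1 ?_⟩
  by_contra hne
  -- the quotient `g / f` would give a pencil with too much ramification
  set u := g / f with hu
  have hu0 : u ≠ 0 := div_ne_zero hg0 hf0
  have huR : ∀ R : Place k K, R ≠ P → R ≠ P' → R.1 u = 1 := fun R h1 h2 => by
    simp [hu, hfs R h1 h2, hgs R h1 h2]
  have hucQ : Q.1 (u - algebraMap k K c) ≤ WithZero.exp (-2) := by
    have h1 : u - algebraMap k K c = (g - c • f) / f := by
      rw [hu, sub_div, Algebra.smul_def, mul_div_cancel_right₀ _ hf0]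
    have h2 := hc.2 Q
    rw [Finsupp.sub_apply, Finsupp.single_eq_same] at h2
    rw [h1, map_div₀, hfs Q hP.symm hP'.symm, div_le_iff₀ WithZero.exp_pos, ← WithZero.exp_add,
      neg_add_eq_sub]
    exact h2
  have huc : u - algebraMap k K c ≠ 0 := by
    intro h0
    rw [hu, sub_eq_zero, div_eq_iff hf0, ← Algebra.smul_def] at h0
    exact hne (sub_eq_zero.2 h0)
  clear_value u
  clear hu hne hc
  obtain ⟨a, ha⟩ : ∃ a, P.1 u = WithZero.exp a :=
    ⟨_, (WithZero.exp_log (by simpa using hu0)).symm⟩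
  obtain ⟨b, hb⟩ : ∃ b, P'.1 u = WithZero.exp b :=
    ⟨_, (WithZero.exp_log (by simpa using hu0)).symm⟩
  have hE : a + b = 0 := by
    have hdeg : ∀ x y : ℤ, Divisor.deg (Finsupp.single P x + Finsupp.single P' y : Divisor k K) =
        x + y := by
      intro x y
      rw [show (Finsupp.single P x + Finsupp.single P' y : Divisor k K) =
        Finsupp.single P x - Finsupp.single P' (-y) by rw [Finsupp.single_neg, sub_neg_eq_add],
        deg_sub_single h.ff, deg_single, deg_place_eq_one h.ff P]
      simp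
    have h1 : u ∈ L (Finsupp.single P a + Finsupp.single P' b : Divisor k K) := by
      intro R
      by_cases h1 : R = P
      · subst h1; simp [ha, Finsupp.single_eq_of_ne hPP]
      by_cases h2 : R = P'
      · subst h2; simp [hb, Finsupp.single_eq_of_ne h1]
      simp [huR R h1 h2, Finsupp.single_eq_of_ne h1, Finsupp.single_eq_of_ne h2]
    have h2 : u⁻¹ ∈ L (Finsupp.single P (-a) + Finsupp.single P' (-b) : Divisor k K) := by
      intro R
      by_cases hR1 : R = P
      · subst hR1; simp [ha, WithZero.exp_neg, Finsupp.single_eq_of_ne hPP]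
      by_cases hR2 : R = P'
      · subst hR2; simp [hb, WithZero.exp_neg, Finsupp.single_eq_of_ne hR1]
      simp [huR R hR1 hR2, Finsupp.single_eq_of_ne hR1, Finsupp.single_eq_of_ne hR2]
    by_contra hne
    rcases lt_or_gt_of_ne hne with h3 | h3
    · rw [h.neg _ (by rw [hdeg]; omega), Submodule.mem_bot] at h1
      exact hu0 h1
    · rw [h.neg _ (by rw [hdeg]; omega), Submodule.mem_bot] at h2
      exact inv_ne_zero hu0 h2
  -- orient the two places so that `u` has its pole at `P'`
  wlog hab : 0 ≤ b generalizing P P' a b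
  · exact this hP' hP (fun R h1 h2 => hfs R h2 h1) (fun R h1 h2 => hgs R h2 h1) (Ne.symm hPP)
      (fun R h1 h2 => huR R h2 h1) b hb a ha (by omega) (by omega)
  obtain ⟨m, rfl⟩ := Int.eq_ofNat_of_zero_le hab
  obtain rfl : a = -(m : ℤ) := by omega
  let E : Divisor k K := Finsupp.single P' (m : ℤ)
  have hEdeg : E.deg = m := by simp [E, deg_single, deg_place_eq_one h.ff P']
  have huE : u ∈ L E := by
    intro R
    by_cases h1 : R = P
    · subst h1
      rw [ha, Finsupp.single_eq_of_ne hPP, WithZero.exp_le_exp]; omega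
    by_cases h2 : R = P'
    · subst h2; simp [E, hb]
    simp [E, huR R h1 h2, Finsupp.single_eq_of_ne h2]
  have h1E : (1 : K) ∈ L E := by
    intro R
    rw [map_one, ← WithZero.exp_zero, WithZero.exp_le_exp]
    by_cases h2 : R = P'
    · subst h2; simp [E]
    · simp [E, Finsupp.single_eq_of_ne h2]
  have hm : m ≠ 0 := by
    rintro rfl
    have hz : L E ≤ L (0 : Divisor k K) := le_of_eq (by simp [E])
    have h1 := eq_exp_of_mem_L_deg_zero h.ff h.neg (by simp [Divisor.deg])
      (hz (Submodule.sub_mem _ huE ((Algebra.algebraMap_eq_smul_one (A := K) c).symm ▸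
        Submodule.smul_mem _ c h1E))) huc Q
    rw [Finsupp.coe_zero, Pi.zero_apply] at h1
    rw [h1, WithZero.exp_le_exp] at hucQ
    omega
  let W : Submodule k K := Submodule.span k {1, u}
  have hW : W ≤ L E := Submodule.span_le.2 (by rintro x (rfl | rfl) <;> assumption)
  have hWfin : FiniteDimensional k W := FiniteDimensional.span_of_finite k (Set.toFinite _)
  have hWr : finrank k W = 1 + 1 := by
    have hli : LinearIndependent k ![(1 : K), u] := by
      rw [LinearIndependent.pair_iff]
      intro s t hst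
      rcases eq_or_ne t 0 with rfl | ht
      · simp at hst; exact ⟨hst, rfl⟩
      · exfalso
        have h1 : u = algebraMap k K (-s / t) := by
          have h2 : t • u = algebraMap k K (-s) := by
            rw [map_neg, ← Algebra.algebraMap_eq_smul_one] at *
            exact eq_neg_of_add_eq_zero_right hst
          rw [div_eq_mul_inv, mul_comm, map_mul, ← h2, Algebra.smul_def, ← mul_assoc, ← map_mul,
            inv_mul_cancel₀ ht, map_one, one_mul]
        have h2 := val_algebraMap P' (c := -s / t) fun h0 => hu0 (by rw [h1, h0, map_zero])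
        rw [← h1, hb, ← WithZero.exp_zero, WithZero.exp_inj] at h2
        omega
    have := finrank_span_eq_card hli
    have e : Set.range ![(1 : K), u] = {1, u} := by
      ext; simp [eq_comm, or_comm]
    rw [e] at this
    simpa [W] using this
  have hWs : IsSeries k E W m 1 := ⟨h.isAlgClosed, h.ff, h.neg, hEdeg, hW, hWr⟩
  have hex := h.excess_le hWs {Q, P, P'} (Finset.insert_nonempty _ _)
  rw [Finset.sum_insert (by simp [hP.symm, hP'.symm]), Finset.sum_pair hPP] at hex
  have huW : u ∈ W := Submodule.subset_span (by simp)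
  have h1W : (1 : K) ∈ W := Submodule.subset_span (by simp)
  have hSP : m ≤ S W E P m := by
    refine S_pencil_ge huW hu0 P m le_rfl fun R => ?_
    by_cases h1 : R = P
    · subst h1; simp [E, ha, Finsupp.single_eq_of_ne hPP]
    · simpa [Finsupp.single_eq_of_ne h1] using huE R
  have hSP' : m ≤ S W E P' m := by
    refine S_pencil_ge h1W one_ne_zero P' m le_rfl fun R => ?_
    simp [E]
  have huW' : u - algebraMap k K c ∈ W := Submodule.sub_mem _ huW
    ((Algebra.algebraMap_eq_smul_one (A := K) c).symm ▸ Submodule.smul_mem _ c h1W)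
  have hQ2 : (1 : ℕ) ≤ finrank k ↥(van W E Q 2) := by
    have := hWs.finite_van Q 2
    refine Submodule.one_le_finrank_iff.2 fun hb' => huc ?_
    have : u - algebraMap k K c ∈ van W E Q 2 := by
      refine ⟨huW', fun R => ?_⟩
      by_cases h1 : R = Q
      · subst h1; simpa [E, Finsupp.single_eq_of_ne hP'.symm] using hucQ
      · simpa [Finsupp.single_eq_of_ne h1] using hW huW' R
    rw [hb'] at this
    exact (Submodule.mem_bot k).1 this
  have hSQ := hWs.half_add_le_S_of_cusp Q hQ2
  omega

/-- The indices with equal vanishing orders across a node, for a rational component with a cusp. -/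
theorem IsGenusZero.subsingleton_index [CharZero k] (h : IsGenusZero k K)
    (hs : IsSeries k D V d r) {KZ : Type*} [Field KZ] [Algebra k KZ] {DZ : Divisor k KZ}
    {VZ : Submodule k KZ} (hsZ : IsSeries k DZ VZ d r) {QY P P' : Place k K} (Q : Place k KZ)
    (hcusp : r ≤ finrank k ↥(van V D QY 2)) (hP : P ≠ QY) (hP'P : P' ≠ P) (hP'Q : P' ≠ QY)
    (hcomp : ∀ n : ℕ, n ≤ d + 1 →
      finrank k ↥(van V D P n) + finrank k ↥(van VZ DZ Q ((d : ℤ) + 1 - n)) = r + 1) :
    {i : ℕ | i ≤ r ∧ ∃ m : ℕ,
        finrank k ↥(van V D P' (m : ℤ)) = r + 1 - i ∧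
        finrank k ↥(van V D P' ((m : ℤ) + 1)) = r - i ∧
        finrank k ↥(van VZ DZ Q (m : ℤ)) = r + 1 - i ∧
        finrank k ↥(van VZ DZ Q ((m : ℤ) + 1)) = r - i}.Subsingleton := by
  rintro i ⟨hi, m, h1, -, h3, h4⟩ j ⟨hj, n, h1', -, h3', h4'⟩
  have key : ∀ (i m : ℕ), i ≤ r → finrank k ↥(van V D P' (m : ℤ)) = r + 1 - i →
      finrank k ↥(van VZ DZ Q (m : ℤ)) = r + 1 - i →
      finrank k ↥(van VZ DZ Q ((m : ℤ) + 1)) = r - i →
      ∃ x ∈ V, x ≠ 0 ∧ P'.1 x = WithZero.exp (D P' - (m : ℤ)) ∧
        ∀ R : Place k K, R ≠ P' → R ≠ P → R.1 x = WithZero.exp (D R) := by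
    intro i m hi h1 h3 h4
    have hmd : m ≤ d := by
      by_contra hlt
      rw [hsZ.van_eq_bot Q (by omega), finrank_bot] at h3
      omega
    have hc := hcomp (d - m) (by omega)
    rw [show (d : ℤ) + 1 - ((d - m : ℕ) : ℤ) = (m : ℤ) + 1 by omega, h4,
      show ((d - m : ℕ) : ℤ) = (d : ℤ) - m by omega] at hc
    obtain ⟨x, hx, hx0, hxP, -, hxR⟩ := hs.exists_exact hP'P (m : ℤ) (by omega)
    exact ⟨x, hx, hx0, hxP, hxR⟩
  obtain ⟨x, hx, hx0, hxP, hxR⟩ := key i m hi h1 h3 h4
  obtain ⟨y, hy, hy0, hyP, hyR⟩ := key j n hj h1' h3' h4'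
  obtain ⟨c, hc⟩ := h.eq_smul_of_supported hs hcusp hP'Q hP hx hy hx0 hy0 hxR hyR
  have hc0 : c ≠ 0 := by rintro rfl; exact hy0 (by simpa using hc)
  rw [hc, Algebra.smul_def, map_mul, val_algebraMap P' hc0, one_mul, hxP, WithZero.exp_inj] at hyP
  obtain rfl : m = n := by omega
  omega

end Groth.Agent.LLS31
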