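import Groth.Agent.LLS31.Found
import Groth.Agent.LLS31.Pairs

/-! Instances of the hypotheses of the chain lemmas. -/

namespace Groth.Agent.LLS31

open FunFld Module

variable {k K : Type*} [Field k] [Field K] [Algebra k K]

theorem isSeries_of [IsAlgClosed k] (hK : IsFunctionField k K) {D : Divisor k K}
    {V : Submodule k K} {d r : ℕ} (hD : D.deg = d) (hV : V ≤ L D) (hr : finrank k V = r + 1) :
    IsSeries k D V d r :=
  ⟨‹_›, hK, L_eq_bot_of_deg_neg hK, hD, hV, hr⟩

theorem isGenusZero_of [IsAlgClosed k] (hK : IsFunctionField k K) (hg : genus k K = 0) :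
    IsGenusZero k K :=
  ⟨‹_›, hK, L_eq_bot_of_deg_neg hK, deg_add_one_le_of_genus_eq_zero hK hg⟩

theorem finiteDimensional_L_step [IsAlgClosed k] (hK : IsFunctionField k K) (P : Place k K)
    (G : Divisor k K) (hG : FiniteDimensional k ↥(L (G - Finsupp.single P 1))) :
    FiniteDimensional k ↥(L G) := by
  by_cases hy : ∃ y ∈ L G, P.1 y = WithZero.exp (G P)
  · obtain ⟨y, hym, hyv⟩ := hy
    refine Submodule.finiteDimensional_of_le
      (S₂ := L (G - Finsupp.single P 1) ⊔ Submodule.span k {y}) fun z hz => ?_
    obtain ⟨c, hc⟩ := exists_smul_sub_le hK P hyv (hz P)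
    refine Submodule.mem_sup.2 ⟨z - c • y, fun R => ?_, c • y,
      Submodule.smul_mem _ _ (Submodule.mem_span_singleton_self y), sub_add_cancel _ _⟩
    by_cases hR : R = P
    · subst hR; simpa using hc
    · rw [Finsupp.sub_apply, Finsupp.single_eq_of_ne hR, sub_zero]
      exact Submodule.sub_mem _ hz (Submodule.smul_mem _ _ hym) R
  · push Not at hy
    refine Submodule.finiteDimensional_of_le (S₂ := L (G - Finsupp.single P 1)) fun z hz R => ?_
    by_cases hR : R = P
    · subst hR; simpa using le_exp_sub_one_of_lt (lt_of_le_of_ne (hz R) (hy z hz))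
    · simpa [Finsupp.single_eq_of_ne hR] using hz R

/-- The spaces `L G` are finite-dimensional. -/
theorem finiteDimensional_L [IsAlgClosed k] (hK : IsFunctionField k K) (G : Divisor k K)
    (P : Place k K) : FiniteDimensional k ↥(L G) := by
  suffices h : ∀ (j : ℕ) (G : Divisor k K), G.deg + 1 ≤ j → FiniteDimensional k ↥(L G) from
    h (G.deg + 1).toNat G (Int.self_le_toNat _)
  intro j
  induction j with
  | zero =>
    intro G hG
    rw [L_eq_bot_of_deg_neg hK G (by omega)]
    infer_instance
  | succ j ih =>
    intro G hG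
    exact finiteDimensional_L_step hK P G (ih _ (by rw [deg_sub_single hK]; omega))

/-- A pencil of degree one makes the genus vanish. -/
theorem genus_eq_zero_of_pencil [IsAlgClosed k] (hK : IsFunctionField k K) {E : Divisor k K}
    (hE : E.deg = 1) (h2 : 2 ≤ finrank k ↥(L E)) : genus k K = 0 := by
  classical
  have hneg := L_eq_bot_of_deg_neg hK
  have : FiniteDimensional k ↥(L E) := Module.finite_of_finrank_pos (by omega)
  obtain ⟨t₁, ht₁, ht₁0⟩ : ∃ x ∈ L E, x ≠ 0 :=
    Submodule.exists_mem_ne_zero_of_ne_bot fun hb => by rw [hb, finrank_bot] at h2; omega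
  -- a second section, independent of the first
  obtain ⟨t₂, ht₂, ht₂n⟩ : ∃ x ∈ L E, x ∉ Submodule.span k {t₁} := by
    by_contra hcon
    push Not at hcon
    have := Submodule.finrank_mono (show L E ≤ Submodule.span k {t₁} from hcon)
    rw [finrank_span_singleton ht₁0] at this
    omega
  -- every divisor of degree `n` has at least `n + 1` sections
  have key : ∀ (n : ℕ) (G : Divisor k K), G.deg = n → n + 1 ≤ finrank k ↥(L G) ∧
      FiniteDimensional k ↥(L G) := by
    -- places are linearly equivalent to `E`
    have hpl : ∀ P : Place k K, ∃ x, x ≠ 0 ∧ ∀ R : Place k K,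
        R.1 x = WithZero.exp ((E - Finsupp.single P (1 : ℤ) : Divisor k K) R) := by
      intro P
      obtain ⟨x, hx, hx0⟩ : ∃ x ∈ L (E - Finsupp.single P 1), x ≠ 0 := by
        refine Submodule.exists_mem_ne_zero_of_ne_bot fun hb => ?_
        have h1 := finrank_inf_L_le_succ hK (L E) E P
        rw [inf_idem, hb, inf_bot_eq, finrank_bot] at h1
        omega
      exact ⟨x, hx0, fun R => eq_exp_of_mem_L_deg_zero hK hneg
        (by rw [deg_sub_single hK, hE]; omega) hx hx0 R⟩
    have hu : ∀ G : Divisor k K, ∃ x, x ≠ 0 ∧ ∀ R : Place k K,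
        R.1 x = WithZero.exp ((G.deg • E - G) R) := by
      intro G
      induction G using Finsupp.induction with
      | zero => exact ⟨1, one_ne_zero, fun R => by simp [Divisor.deg]⟩
      | single_add P n G hP hn ih =>
        obtain ⟨x, hx0, hx⟩ := ih
        obtain ⟨y, hy0, hy⟩ := hpl P
        refine ⟨x * y ^ n, mul_ne_zero hx0 (zpow_ne_zero _ hy0), fun R => ?_⟩
        have hd : Divisor.deg (Finsupp.single P n + G : Divisor k K) = n + Divisor.deg G := by
          rw [show (Finsupp.single P n + G : Divisor k K) = G - Finsupp.single P (-n) by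
            rw [Finsupp.single_neg, sub_neg_eq_add, add_comm], deg_sub_single hK]
          ring
        rw [map_mul, map_zpow₀, hx, hy, ← WithZero.exp_zsmul, ← WithZero.exp_add, hd]
        congr 1
        simp only [Finsupp.sub_apply, Finsupp.smul_apply, Finsupp.add_apply, smul_eq_mul,
          Finsupp.single_apply]
        split_ifs <;> ring
    intro n G hG
    obtain ⟨g, hg0, hgv⟩ := hu G
    -- the products of the two sections
    let v : Fin (n + 1) → K := fun i => g⁻¹ * (t₂ ^ (i : ℕ) * t₁ ^ (n - (i : ℕ)))
    have hv : ∀ i, v i ∈ L G := by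
      intro i R
      simp only [v, map_mul, map_inv₀, map_pow, hgv]
      refine (mul_le_mul' le_rfl (mul_le_mul' (pow_le_pow_left' (ht₂ R) _)
        (pow_le_pow_left' (ht₁ R) _))).trans (le_of_eq ?_)
      rw [← WithZero.exp_neg, ← WithZero.exp_nsmul, ← WithZero.exp_nsmul, ← WithZero.exp_add,
        ← WithZero.exp_add, Finsupp.sub_apply, Finsupp.smul_apply, hG]
      congr 1
      have := i.isLt
      push_cast [nsmul_eq_mul, smul_eq_mul, Nat.cast_sub (show (i : ℕ) ≤ n by omega)]
      ring
    have hli : LinearIndependent k v := by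
      rw [Fintype.linearIndependent_iff]
      intro a ha
      have hq : Polynomial.aeval (t₂ / t₁)
          (∑ i : Fin (n + 1), Polynomial.monomial (i : ℕ) (a i)) = 0 := by
        have h1 : (g⁻¹ * t₁ ^ n) * Polynomial.aeval (t₂ / t₁)
            (∑ i : Fin (n + 1), Polynomial.monomial (i : ℕ) (a i)) = 0 := by
          rw [map_sum, Finset.mul_sum, ← ha]
          refine Finset.sum_congr rfl fun i _ => ?_
          have hsplit : t₁ ^ n = t₁ ^ (n - (i : ℕ)) * t₁ ^ (i : ℕ) := by
            rw [← pow_add, Nat.sub_add_cancel (Nat.lt_succ_iff.1 i.isLt)]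
          rw [Polynomial.aeval_monomial, Algebra.smul_def, div_pow, hsplit]
          simp only [v]
          field_simp
        exact (mul_eq_zero.1 h1).resolve_left
          (mul_ne_zero (inv_ne_zero hg0) (pow_ne_zero _ ht₁0))
      have htr : Transcendental k (t₂ / t₁) := by
        intro halg
        obtain ⟨s, hs⟩ := hK.2 _ halg
        refine ht₂n (Submodule.mem_span_singleton.2 ⟨s, ?_⟩)
        rw [Algebra.smul_def, hs, div_mul_cancel₀ _ ht₁0]
      have h0 := (transcendental_iff.1 htr) _ hq
      intro i
      have := congrArg (fun p => Polynomial.coeff p (i : ℕ)) h0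
      simpa [Polynomial.finsetSum_coeff, Polynomial.coeff_monomial, Fin.val_inj] using this
    obtain ⟨P⟩ : Nonempty (Place k K) := by
      by_contra hcon
      rw [not_nonempty_iff] at hcon
      have : E = 0 := Finsupp.ext fun P => hcon.elim P
      simp [this, Divisor.deg] at hE
    have hGfin := finiteDimensional_L hK G P
    refine ⟨?_, hGfin⟩
    have := Submodule.finrank_mono (show Submodule.span k (Set.range v) ≤ L G from
      Submodule.span_le.2 (by rintro _ ⟨i, rfl⟩; exact hv i))
    rwa [finrank_span_eq_card hli, Fintype.card_fin] at this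
  refine Nat.eq_zero_of_le_zero (csSup_le (Set.range_nonempty _) ?_)
  rintro _ ⟨G, rfl⟩
  rcases lt_or_ge G.deg 0 with hG | hG
  · simp only [ell]; omega
  · obtain ⟨n, hn⟩ := Int.eq_ofNat_of_zero_le hG
    have h1 := (key n G hn).1
    simp only [ell]; omega

theorem finrank_L_le_one_of_genus_pos [IsAlgClosed k] (hK : IsFunctionField k K)
    (hg : 0 < genus k K) {E : Divisor k K} (hE : E.deg = 1) : finrank k ↥(L E) ≤ 1 := by
  by_contra hlt
  have := genus_eq_zero_of_pencil hK hE (by omega)
  omega

theorem van_A_le_one_of_genus_pos [IsAlgClosed k] (hK : IsFunctionField k K)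
    (hg : 0 < genus k K) {D : Divisor k K} {V : Submodule k K} {d : ℕ} (hD : D.deg = d)
    (P : Place k K) : finrank k ↥(van V D P ((d : ℤ) - 1)) ≤ 1 := by
  have hdeg : (D - Finsupp.single P ((d : ℤ) - 1)).deg = 1 := by
    rw [deg_sub_single hK, hD]; ring
  have := finiteDimensional_L hK (D - Finsupp.single P ((d : ℤ) - 1)) P
  exact (Submodule.finrank_mono inf_le_right).trans (finrank_L_le_one_of_genus_pos hK hg hdeg)

end Groth.Agent.LLS31
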