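import Groth.Agent.LLS31.Genus0
import Mathlib.Data.Fintype.Fin

/-! Limit linear series on chains of components. -/

namespace Groth.Agent.LLS31

open FunFld Module Finset

section One

variable {k K : Type*} [Field k] [Field K] [Algebra k K]
  {D : Divisor k K} {V : Submodule k K} {d r : ℕ}

/-- The last vanishing orders are bounded by `d, d - 1, …`. -/
theorem IsSeries.S_add_half_le (h : IsSeries k D V d r) (P : Place k K) :
    S V D P d + r * (r + 1) / 2 ≤ (r + 1) * d := by
  obtain ⟨m, -, hm, hmd, -, -, -, hs⟩ := (h.isStepFiltration P).exists_adapted r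
    (by rw [Nat.cast_zero, van_zero h.le]; exact h.rank)
  have h2 := sum_fin_le_sum_of_injective (fun i => d - m i) fun a b hab => hm (by
    have := hmd a; have := hmd b; simp only at hab; omega)
  rw [Fin.sum_univ_eq_sum_range (fun i => i), Finset.sum_range_id, Nat.add_sub_cancel,
    Nat.mul_comm] at h2
  have h3 : ∑ i, (d - m i) + ∑ i, m i = (r + 1) * d := by
    rw [← Finset.sum_add_distrib, Finset.sum_congr rfl fun i _ => Nat.sub_add_cancel (hmd i)]
    simp
  have h4 : S V D P d = ∑ i, m i :=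
    (hs.trans (Finset.sum_congr rfl fun n _ => by rw [Nat.cast_succ])).symm
  omega

/-- The Pluecker bound, in terms of excesses over the generic value. -/
theorem IsGenusZero.excess_le [CharZero k] (h : IsGenusZero k K) (hs : IsSeries k D V d r)
    (s : Finset (Place k K)) (hne : s.Nonempty) :
    ∑ P ∈ s, (S V D P d - r * (r + 1) / 2) + r * (r + 1) ≤ (r + 1) * d := by
  have h1 := h.sum_S_le hs s hne
  have h2 : ∑ P ∈ s, (S V D P d - r * (r + 1) / 2) + s.card * (r * (r + 1) / 2) =
      ∑ P ∈ s, S V D P d := by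
    rw [← smul_eq_mul s.card, ← Finset.sum_const, ← Finset.sum_add_distrib]
    exact Finset.sum_congr rfl fun P _ => Nat.sub_add_cancel (hs.half_le_S P)
  omega

/-- A cusp and two further places on a rational component. -/
theorem IsGenusZero.cusp_pair [CharZero k] (h : IsGenusZero k K) (hs : IsSeries k D V d r)
    {A B Q : Place k K} (hAB : A ≠ B) (hQA : Q ≠ A) (hQB : Q ≠ B)
    (hcusp : r ≤ finrank k ↥(van V D Q 2)) :
    S V D A d + S V D B d + r ≤ (r + 1) * d := by
  classical
  have h1 := h.excess_le hs {Q, A, B} (Finset.insert_nonempty _ _)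
  rw [Finset.sum_insert (by simp [hQA, hQB]), Finset.sum_pair hAB] at h1
  have h2 := hs.half_add_le_S_of_cusp Q hcusp
  have h3 := hs.half_le_S A
  have h4 := hs.half_le_S B
  omega

end One

section Chain

variable {k : Type*} [Field k] {N : ℕ} {Z : Fin (N + 1) → Type*} [∀ i, Field (Z i)]
  [∀ i, Algebra k (Z i)] {d r : ℕ}
  {D : ∀ i, Divisor k (Z i)} {V : ∀ i, Submodule k (Z i)} {A B : ∀ i, Place k (Z i)}

/-- Compatibility of consecutive aspects. -/
def IsCompat (d r : ℕ) (D : ∀ i, Divisor k (Z i)) (V : ∀ i, Submodule k (Z i))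
    (A B : ∀ i, Place k (Z i)) : Prop :=
  ∀ (l : Fin N) (m : ℕ), m ≤ d + 1 →
    finrank k ↥(van (V l.castSucc) (D l.castSucc) (B l.castSucc) (m : ℤ)) +
      finrank k ↥(van (V l.succ) (D l.succ) (A l.succ) ((d : ℤ) + 1 - m)) = r + 1

theorem IsCompat.node (hc : IsCompat d r D V A B) (l : Fin N) :
    S (V l.castSucc) (D l.castSucc) (B l.castSucc) d + S (V l.succ) (D l.succ) (A l.succ) d =
      (r + 1) * d :=
  S_add_S_of_compat _ _ (hc l)

theorem IsCompat.lower_A (hc : IsCompat d r D V A B)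
    (c : ℕ → ℕ) (h0 : S (V 0) (D 0) (B 0) d + c 1 ≤ (r + 1) * d)
    (hstep : ∀ i : Fin (N + 1), 0 < (i : ℕ) → (i : ℕ) < N →
      S (V i) (D i) (A i) d + S (V i) (D i) (B i) d + c ((i : ℕ) + 1) ≤ (r + 1) * d + c (i : ℕ)) :
    ∀ i : Fin (N + 1), 0 < (i : ℕ) → c (i : ℕ) ≤ S (V i) (D i) (A i) d := by
  intro i
  induction i using Fin.induction with
  | zero => simp
  | succ l ih =>
    intro _
    have hn := hc.node l
    rcases Nat.eq_zero_or_pos (l : ℕ) with hl | hl
    · have e : l.castSucc = 0 := Fin.ext (by simpa using hl)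
      have h1 : S (V l.castSucc) (D l.castSucc) (B l.castSucc) d + c 1 ≤ (r + 1) * d := e ▸ h0
      simp only [Fin.val_succ, hl, zero_add]
      omega
    · have h1 := ih (by simpa using hl)
      have h2 := hstep l.castSucc (by simpa using hl) (by simp)
      simp only [Fin.val_succ, Fin.val_castSucc] at h1 h2 ⊢
      omega

theorem IsCompat.lower_B (hc : IsCompat d r D V A B)
    (c : ℕ → ℕ) (hN : S (V (Fin.last N)) (D (Fin.last N)) (A (Fin.last N)) d + c (N - 1) ≤ (r + 1) * d)
    (hstep : ∀ i : Fin (N + 1), 0 < (i : ℕ) → (i : ℕ) < N →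
      S (V i) (D i) (A i) d + S (V i) (D i) (B i) d + c ((i : ℕ) - 1) ≤ (r + 1) * d + c (i : ℕ)) :
    ∀ i : Fin (N + 1), (i : ℕ) < N → c (i : ℕ) ≤ S (V i) (D i) (B i) d := by
  intro i
  induction i using Fin.reverseInduction with
  | last => simp
  | cast l ih =>
    intro _
    have hn := hc.node l
    rcases eq_or_lt_of_le (show (l : ℕ) + 1 ≤ N by omega) with hl | hl
    · have e : l.succ = Fin.last N := Fin.ext (by simpa using hl)
      have h1 : S (V l.succ) (D l.succ) (A l.succ) d + c (N - 1) ≤ (r + 1) * d := e ▸ hN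
      rw [show N - 1 = (l : ℕ) by omega] at h1
      simp only [Fin.val_castSucc]
      omega
    · have h1 := ih (by simpa using hl)
      have h2 := hstep l.succ (by simp) (by simpa using hl)
      simp only [Fin.val_succ, Fin.val_castSucc, Nat.add_sub_cancel] at h1 h2 ⊢
      omega

/-- The number of marked components strictly before `n`. -/
def cntLt (T : Finset (Fin (N + 1))) (n : ℕ) : ℕ := (T.filter fun j : Fin (N + 1) => (j : ℕ) < n).card

/-- The number of marked components strictly after `n`. -/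
def cntGt (T : Finset (Fin (N + 1))) (n : ℕ) : ℕ := (T.filter fun j : Fin (N + 1) => n < (j : ℕ)).card

theorem cntLt_succ (T : Finset (Fin (N + 1))) (i : Fin (N + 1)) :
    cntLt T ((i : ℕ) + 1) = cntLt T i + if i ∈ T then 1 else 0 := by
  have h : T.filter (fun j : Fin (N + 1) => (j : ℕ) < (i : ℕ) + 1) =
      T.filter (fun j : Fin (N + 1) => (j : ℕ) < (i : ℕ)) ∪ T.filter (fun j : Fin (N + 1) => j = i) := by
    ext j; simp only [mem_filter, mem_union, Fin.ext_iff]; constructor
    · rintro ⟨h1, h2⟩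
      by_cases (j : ℕ) = (i : ℕ)
      · exact Or.inr ⟨h1, ‹_›⟩
      · exact Or.inl ⟨h1, by omega⟩
    · rintro (⟨h1, h2⟩ | ⟨h1, h2⟩) <;> exact ⟨h1, by omega⟩
  rw [cntLt, cntLt, h, card_union_of_disjoint (by
    rw [disjoint_filter]; intro j _ h1 h2; subst h2; exact lt_irrefl _ h1), Finset.filter_eq']
  split_ifs <;> simp

theorem cntGt_pred (T : Finset (Fin (N + 1))) (i : Fin (N + 1)) (hi : 0 < (i : ℕ)) :
    cntGt T ((i : ℕ) - 1) = cntGt T i + if i ∈ T then 1 else 0 := by
  have h : T.filter (fun j : Fin (N + 1) => (i : ℕ) - 1 < (j : ℕ)) =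
      T.filter (fun j : Fin (N + 1) => (i : ℕ) < (j : ℕ)) ∪ T.filter (fun j : Fin (N + 1) => j = i) := by
    ext j; simp only [mem_filter, mem_union, Fin.ext_iff]; constructor
    · rintro ⟨h1, h2⟩
      by_cases (j : ℕ) = (i : ℕ)
      · exact Or.inr ⟨h1, ‹_›⟩
      · exact Or.inl ⟨h1, by omega⟩
    · rintro (⟨h1, h2⟩ | ⟨h1, h2⟩) <;> exact ⟨h1, by omega⟩
  rw [cntGt, cntGt, h, card_union_of_disjoint (by
    rw [disjoint_filter]; intro j _ h1 h2; subst h2; exact lt_irrefl _ h1), Finset.filter_eq']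
  split_ifs <;> simp

theorem cntLt_zero (T : Finset (Fin (N + 1))) : cntLt T 0 = 0 := by simp [cntLt]

theorem cntGt_last (T : Finset (Fin (N + 1))) : cntGt T N = 0 := by
  rw [cntGt, Finset.card_eq_zero, Finset.filter_eq_empty_iff]
  intro j _; omega

theorem card_eq_cnt (T : Finset (Fin (N + 1))) (i : Fin (N + 1)) :
    T.card = cntLt T i + cntGt T i + (if i ∈ T then 1 else 0) := by
  rw [add_right_comm, ← cntLt_succ, cntLt, cntGt, ← card_union_of_disjoint (by
    rw [disjoint_filter]; intro j _ h1 h2; omega), ← filter_or,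
    Finset.filter_true_of_mem fun j _ => by omega]

theorem card_erase_eq_cnt (T : Finset (Fin (N + 1))) (i : Fin (N + 1)) :
    (T.erase i).card = cntLt T i + cntGt T i := by
  have := card_eq_cnt T i
  rw [Finset.card_erase_eq_ite]
  by_cases hi : i ∈ T <;> simp only [hi, if_true, if_false] at this ⊢ <;> omega

/-- The data of a backbone with cusps on the marked components. -/
structure IsBackbone (d r : ℕ) (D : ∀ i, Divisor k (Z i)) (V : ∀ i, Submodule k (Z i))
    (A B Q : ∀ i, Place k (Z i)) (T : Finset (Fin (N + 1))) : Prop where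
  g0 : ∀ i, IsGenusZero k (Z i)
  series : ∀ i, IsSeries k (D i) (V i) d r
  compat : IsCompat d r D V A B
  hAB : ∀ i : Fin (N + 1), 0 < (i : ℕ) → (i : ℕ) < N → A i ≠ B i
  hQA : ∀ i ∈ T, 0 < (i : ℕ) → Q i ≠ A i
  hQB : ∀ i ∈ T, (i : ℕ) < N → Q i ≠ B i
  cusp : ∀ i ∈ T, r ≤ finrank k ↥(van (V i) (D i) (Q i) 2)

namespace IsBackbone

variable {Q : ∀ i, Place k (Z i)} {T : Finset (Fin (N + 1))}

theorem inner [CharZero k] (h : IsBackbone d r D V A B Q T) (i : Fin (N + 1)) (h0 : 0 < (i : ℕ))
    (hN : (i : ℕ) < N) :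
    S (V i) (D i) (A i) d + S (V i) (D i) (B i) d + r * (if i ∈ T then 1 else 0) ≤
      (r + 1) * d := by
  split_ifs with hi
  · rw [mul_one]
    exact (h.g0 i).cusp_pair (h.series i) (h.hAB i h0 hN) (h.hQA i hi h0) (h.hQB i hi hN)
      (h.cusp i hi)
  · simpa using (h.series i).S_add_S_le (h.hAB i h0 hN)

theorem endpoint (h : IsBackbone d r D V A B Q T) (i : Fin (N + 1)) (P : Place k (Z i))
    (hP : i ∈ T → Q i ≠ P) :
    S (V i) (D i) P d + r * (r + 1) / 2 + r * (if i ∈ T then 1 else 0) ≤ (r + 1) * d := by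
  split_ifs with hi
  · have h1 := (h.series i).half_add_le_S_of_cusp (Q i) (h.cusp i hi)
    have h2 := (h.series i).S_add_S_le (hP hi)
    rw [mul_one]
    omega
  · simpa using (h.series i).S_add_half_le P

theorem lower_A [CharZero k] (h : IsBackbone d r D V A B Q T) (i : Fin (N + 1))
    (hi : 0 < (i : ℕ)) :
    r * (r + 1) / 2 + r * cntLt T i ≤ S (V i) (D i) (A i) d := by
  refine h.compat.lower_A (fun n => r * (r + 1) / 2 + r * cntLt T n) ?_
    (fun j hj0 hjN => ?_) i hi
  · have h1 := h.endpoint 0 (B 0) fun hT => h.hQB 0 hT (by have := i.isLt; simp; omega)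
    have h2 := cntLt_succ T 0
    simp only [Fin.val_zero, zero_add, cntLt_zero] at h2
    rw [h2]
    omega
  · have h1 := h.inner j hj0 hjN
    rw [cntLt_succ, mul_add r (cntLt T j)]
    omega

theorem lower_B [CharZero k] (h : IsBackbone d r D V A B Q T) (i : Fin (N + 1))
    (hi : (i : ℕ) < N) :
    r * (r + 1) / 2 + r * cntGt T i ≤ S (V i) (D i) (B i) d := by
  refine h.compat.lower_B (fun n => r * (r + 1) / 2 + r * cntGt T n) ?_
    (fun j hj0 hjN => ?_) i hi
  · have h1 := h.endpoint (Fin.last N) (A (Fin.last N))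
      fun hT => h.hQA _ hT (by simp; omega)
    have h2 := cntGt_pred T (Fin.last N) (by simp; omega)
    rw [Fin.val_last, cntGt_last, zero_add] at h2
    rw [h2]
    omega
  · have h1 := h.inner j hj0 hjN
    rw [cntGt_pred T j hj0, mul_add r (cntGt T j)]
    omega

/-- Excess weight at a place away from the marked ones. -/
theorem off_nodes [CharZero k] (h : IsBackbone d r D V A B Q T) (i : Fin (N + 1))
    (Q' : Place k (Z i)) (hA : 0 < (i : ℕ) → Q' ≠ A i) (hB : (i : ℕ) < N → Q' ≠ B i)
    (hQ : i ∈ T → Q' ≠ Q i) :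
    S (V i) (D i) Q' d + r * T.card + r * (r + 1) ≤ (r + 1) * d + r * (r + 1) / 2 := by
  classical
  let sA : Finset (Place k (Z i)) := if 0 < (i : ℕ) then {A i} else ∅
  let sB : Finset (Place k (Z i)) := if (i : ℕ) < N then {B i} else ∅
  let sQ : Finset (Place k (Z i)) := if i ∈ T then {Q i} else ∅
  have hd1 : Disjoint sA sB := by
    simp only [sA, sB]
    split_ifs with h1 h2 <;> simp [h.hAB i, *]
  have hd2 : Disjoint (sA ∪ sB) sQ := by
    simp only [sA, sB, sQ, Finset.disjoint_union_left]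
    constructor <;> split_ifs with h1 h2 <;>
      simp [Ne.symm, h.hQA i, h.hQB i, *]
  have hd3 : Q' ∉ sA ∪ sB ∪ sQ := by
    simp only [sA, sB, sQ]
    split_ifs with h1 h2 h3 <;> simp [*]
  have h0 := (h.g0 i).excess_le (h.series i) (insert Q' (sA ∪ sB ∪ sQ)) (Finset.insert_nonempty _ _)
  rw [Finset.sum_insert hd3, Finset.sum_union hd2, Finset.sum_union hd1] at h0
  have eA : r * cntLt T i ≤ ∑ P ∈ sA, (S (V i) (D i) P d - r * (r + 1) / 2) := by
    simp only [sA]
    split_ifs with h1
    · have := h.lower_A i h1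
      rw [Finset.sum_singleton]
      omega
    · simp [cntLt_zero, Nat.eq_zero_of_not_pos h1]
  have eB : r * cntGt T i ≤ ∑ P ∈ sB, (S (V i) (D i) P d - r * (r + 1) / 2) := by
    simp only [sB]
    split_ifs with h1
    · have := h.lower_B i h1
      rw [Finset.sum_singleton]
      omega
    · simp [cntGt_last, show (i : ℕ) = N by omega]
  have eQ : r * (if i ∈ T then 1 else 0) ≤ ∑ P ∈ sQ, (S (V i) (D i) P d - r * (r + 1) / 2) := by
    simp only [sQ]
    split_ifs with h1
    · have := (h.series i).half_add_le_S_of_cusp (Q i) (h.cusp i h1)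
      rw [Finset.sum_singleton]
      omega
    · simp
  have := (h.series i).half_le_S Q'
  rw [card_eq_cnt T i, mul_add r (_ + _), mul_add r (cntLt T i)]
  omega

theorem brillNoether [CharZero k] (h : IsBackbone d r D V A B Q T) :
    r * T.card + r * (r + 1) ≤ (r + 1) * d := by
  rcases Nat.eq_zero_or_pos N with rfl | hN
  · have hc := card_eq_cnt T 0
    rw [Fin.val_zero, cntLt_zero, cntGt_last] at hc
    simp only [zero_add] at hc
    rw [hc]
    by_cases hT : (0 : Fin 1) ∈ T
    · simp only [if_pos hT, mul_one]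
      have := (h.series 0).half_add_le_S_of_cusp (Q 0) (h.cusp 0 hT)
      have := (h.series 0).S_add_half_le (Q 0)
      have := Nat.two_mul_div_two_of_even (Nat.even_mul_succ_self r)
      omega
    · simp only [if_neg hT, mul_zero, zero_add]
      have := (h.series 0).half_le_S (Q 0)
      have := (h.series 0).S_add_half_le (Q 0)
      have := Nat.two_mul_div_two_of_even (Nat.even_mul_succ_self r)
      omega
  · have h1 := h.lower_A (Fin.last N) (by simpa using hN)
    have h2 := h.endpoint (Fin.last N) (A (Fin.last N)) fun hT => h.hQA _ hT (by simpa using hN)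
    rw [card_eq_cnt T (Fin.last N), Fin.val_last, cntGt_last, add_zero, mul_add r (cntLt T N)]
    rw [Fin.val_last] at h1
    have := Nat.two_mul_div_two_of_even (Nat.even_mul_succ_self r)
    omega

theorem node_weights [CharZero k] (h : IsBackbone d r D V A B Q T) (i : Fin (N + 1))
    (h0 : 0 < (i : ℕ)) (hN : (i : ℕ) < N) :
    r * (T.erase i).card + r * (r + 1) ≤ S (V i) (D i) (A i) d + S (V i) (D i) (B i) d := by
  have := h.lower_A i h0
  have := h.lower_B i hN
  have := Nat.two_mul_div_two_of_even (Nat.even_mul_succ_self r)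
  rw [card_erase_eq_cnt, mul_add r (cntLt T i)]
  omega

theorem tail_node [CharZero k] (h : IsBackbone d r D V A B Q T) (i : Fin (N + 1)) (hiT : i ∈ T)
    (h0 : 0 < (i : ℕ)) (hN : (i : ℕ) < N) :
    S (V i) (D i) (Q i) d + r * (T.erase i).card + r * (r + 1) / 2 ≤ (r + 1) * d := by
  classical
  have h1 := (h.g0 i).excess_le (h.series i) {Q i, A i, B i} (Finset.insert_nonempty _ _)
  rw [Finset.sum_insert (by simp [h.hQA i hiT h0, h.hQB i hiT hN]),
    Finset.sum_pair (h.hAB i h0 hN)] at h1
  have := h.node_weights i h0 hN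
  have := (h.series i).half_le_S (Q i)
  have := (h.series i).half_le_S (A i)
  have := (h.series i).half_le_S (B i)
  omega

end IsBackbone

/-- Downward along a chain ending in positive genus: few sections vanish almost fully at `A`. -/
theorem finrank_van_A_le_one (hc : IsCompat d r D V A B) (hs : ∀ i, IsSeries k (D i) (V i) d r)
    (hd : 0 < d)
    (hAB : ∀ i : Fin (N + 1), 0 < (i : ℕ) → (i : ℕ) < N → A i ≠ B i)
    (hlast : finrank k ↥(van (V (Fin.last N)) (D (Fin.last N)) (A (Fin.last N)) ((d : ℤ) - 1)) ≤ 1)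
    (i : Fin (N + 1)) : 0 < (i : ℕ) →
      finrank k ↥(van (V i) (D i) (A i) ((d : ℤ) - 1)) ≤ 1 := by
  induction i using Fin.reverseInduction with
  | last => exact fun _ => hlast
  | cast l ih =>
    intro hl
    have h1 := ih (by simp)
    have h2 := hc l 2 (by omega)
    rw [show (d : ℤ) + 1 - ((2 : ℕ) : ℤ) = (d : ℤ) - 1 by omega] at h2
    have h3 := (hs l.castSucc).van_add_van_le (hAB _ hl (by simp)) ((d : ℤ) - 1) ((2 : ℕ) : ℤ)
      (by push_cast; omega)
    omega

end Chain

end Groth.Agent.LLS31
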