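import Groth.Agent.FF30.Riemann

/-! The two foundational facts used by the chain lemmas. -/

namespace Groth.Agent.LLS31

open FunFld Module

variable {k K : Type*} [Field k] [Field K] [Algebra k K]

theorem L_eq_bot_of_deg_neg (hK : IsFunctionField k K) :
    ∀ E : Divisor k K, E.deg < 0 → L E = ⊥ := fun _ hE =>
  (FF30.FF.of_isFunctionField hK).L_eq_bot_of_deg_neg hE

theorem deg_add_one_le_of_genus_eq_zero (hK : IsFunctionField k K)
    (hg : genus k K = 0) (E : Divisor k K) (_hE : 0 ≤ E.deg) :
    E.deg + 1 ≤ finrank k ↥(L E) := by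
  have h := (FF30.FF.of_isFunctionField hK).delta_le_genus E
  simp only [FF30.delta, ell, hg] at h
  omega

end Groth.Agent.LLS31
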