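import Groth.Agent.LLS31.Filtration
import Mathlib.LinearAlgebra.Vandermonde
import Mathlib.RingTheory.Polynomial.Pochhammer
import Mathlib.Algebra.Polynomial.Derivative
import Mathlib.Algebra.Polynomial.RingDivision
import Mathlib.Algebra.Polynomial.Roots
import Mathlib.Algebra.Polynomial.Taylor
import Mathlib.RingTheory.Polynomial.DegreeLT
import Mathlib.Algebra.Polynomial.Degree.Lemmas

/-! The Pluecker bound for spaces of polynomials in characteristic zero. -/

namespace Groth.Agent.LLS31

open Module Polynomial Finset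

variable {k : Type*} [Field k]

/-- The matrix of iterated derivatives. -/
noncomputable def wronskMat {N : ℕ} (p : Fin N → k[X]) : Matrix (Fin N) (Fin N) k[X] :=
  Matrix.of fun i j => derivative^[(j : ℕ)] (p i)

theorem X_sub_C_pow_dvd_det_wronskMat {N : ℕ} (p : Fin N → k[X]) (c : k) (m : Fin N → ℕ)
    (hp : ∀ i, (X - C c) ^ m i ∣ p i) :
    (X - C c) ^ (∑ i, m i - ∑ j : Fin N, (j : ℕ)) ∣ (wronskMat p).det := by
  rw [Matrix.det_apply]
  refine Finset.dvd_sum fun σ _ => ?_
  rw [Units.smul_def, zsmul_eq_mul]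
  refine Dvd.dvd.mul_left ?_ _
  have h1 : ∏ i, (X - C c) ^ (m (σ i) - (i : ℕ)) ∣ ∏ i, wronskMat p (σ i) i :=
    Finset.prod_dvd_prod_of_dvd _ _ fun i _ =>
      pow_sub_dvd_iterate_derivative_of_pow_dvd _ (hp (σ i))
  refine dvd_trans ?_ h1
  rw [Finset.prod_pow_eq_pow_sum]
  refine pow_dvd_pow _ ?_
  have h2 : ∑ i, m i ≤ ∑ i : Fin N, (m (σ i) - (i : ℕ)) + ∑ j : Fin N, (j : ℕ) := by
    rw [← Finset.sum_add_distrib, ← Equiv.sum_comp σ m]
    exact Finset.sum_le_sum fun i _ => by omega
  omega

theorem natDegree_det_wronskMat_le {N : ℕ} (p : Fin N → k[X]) (e : Fin N → ℕ)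
    (hp : ∀ i, (p i).natDegree ≤ e i) :
    (wronskMat p).det.natDegree ≤ ∑ i, e i - ∑ j : Fin N, (j : ℕ) := by
  classical
  rw [Matrix.det_apply]
  refine natDegree_sum_le_of_forall_le _ _ fun σ _ => ?_
  refine le_trans (natDegree_smul_le _ _) ?_
  by_cases h : ∀ i : Fin N, (i : ℕ) ≤ e (σ i)
  · refine le_trans (natDegree_prod_le _ _) ?_
    have h1 : ∀ i : Fin N, (wronskMat p (σ i) i).natDegree ≤ e (σ i) - (i : ℕ) := fun i =>
      le_trans (natDegree_iterate_derivative _ _) (Nat.sub_le_sub_right (hp _) _)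
    refine le_trans (Finset.sum_le_sum fun i _ => h1 i) (le_of_eq ?_)
    rw [Finset.sum_tsub_distrib _ fun i _ => h i, Equiv.sum_comp σ e]
  · push Not at h
    obtain ⟨i, hi⟩ := h
    rw [Finset.prod_eq_zero (Finset.mem_univ i) (iterate_derivative_eq_zero
      (lt_of_le_of_lt (hp _) hi))]
    simp

theorem coeff_prod_sum_of_natDegree_le {ι : Type*} (s : Finset ι) (f : ι → k[X]) (e : ι → ℕ)
    (h : ∀ i ∈ s, (f i).natDegree ≤ e i) :
    (∏ i ∈ s, f i).coeff (∑ i ∈ s, e i) = ∏ i ∈ s, (f i).coeff (e i) := by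
  classical
  induction s using Finset.induction_on with
  | empty => simp
  | insert a s ha ih =>
    rw [Finset.prod_insert ha, Finset.prod_insert ha, Finset.sum_insert ha,
      coeff_mul_add_eq_of_natDegree_le (h a (Finset.mem_insert_self a s)),
      ih fun i hi => h i (Finset.mem_insert_of_mem hi)]
    exact le_trans (natDegree_prod_le _ _)
      (Finset.sum_le_sum fun i hi => h i (Finset.mem_insert_of_mem hi))

theorem det_wronskMat_ne_zero [CharZero k] {N : ℕ} (p : Fin N → k[X]) (e : Fin N → ℕ)
    (he : Function.Injective e) (hdeg : ∀ i, (p i).natDegree = e i) (hne : ∀ i, p i ≠ 0) :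
    (wronskMat p).det ≠ 0 := by
  classical
  intro h0
  let M : Matrix (Fin N) (Fin N) k[X] := Matrix.of fun i j => X ^ (j : ℕ) * wronskMat p i j
  have hM : M.det = 0 := by rw [Matrix.det_mul_row, h0, mul_zero]
  let B : Matrix (Fin N) (Fin N) k := Matrix.of fun i j => (M i j).coeff (e i)
  have hd : ∀ (i : Fin N) (j : Fin N), (M i j).natDegree ≤ e i := by
    intro i j
    simp only [M, Matrix.of_apply, wronskMat]
    rcases lt_or_ge (e i) j with hlt | hge
    · rw [iterate_derivative_eq_zero (by rw [hdeg]; exact hlt)]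
      simp
    · refine le_trans natDegree_mul_le ?_
      have := natDegree_iterate_derivative (p i) (j : ℕ)
      rw [hdeg] at this
      rw [natDegree_X_pow]
      omega
  have hcoef : (M.det).coeff (∑ i, e i) = B.det := by
    rw [Matrix.det_apply, Matrix.det_apply, finset_sum_coeff]
    refine Finset.sum_congr rfl fun σ _ => ?_
    rw [Units.smul_def, Units.smul_def, coeff_smul]
    congr 1
    rw [← Equiv.sum_comp σ e, coeff_prod_sum_of_natDegree_le _ _ _ fun i _ => hd _ _]
    rfl
  have hB : B = Matrix.of fun i j => (p i).leadingCoeff *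
      (Matrix.of (fun i (j : Fin N) => ((descPochhammer k (j : ℕ)).eval (e i : k)))) i j := by
    ext i j
    simp only [B, M, Matrix.of_apply, wronskMat, descPochhammer_eval_eq_descFactorial]
    rcases lt_or_ge (e i) j with hlt | hge
    · rw [iterate_derivative_eq_zero (by rw [hdeg]; exact hlt),
        Nat.descFactorial_eq_zero_iff_lt.2 hlt]
      simp
    · obtain ⟨t, ht⟩ := Nat.exists_eq_add_of_le hge
      rw [ht, add_comm (j : ℕ) t, coeff_X_pow_mul, coeff_iterate_derivative, nsmul_eq_mul,
        mul_comm, show t + (j : ℕ) = e i by omega, ← hdeg, coeff_natDegree]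
  have hBne : B.det ≠ 0 := by
    rw [hB, Matrix.det_mul_column, ← Matrix.det_eval_matrixOfPolynomials_eq_det_vandermonde
      (fun i => (e i : k)) (fun j => descPochhammer k (j : ℕ))
      (fun j => descPochhammer_natDegree k _) (fun j => monic_descPochhammer _ _)]
    refine mul_ne_zero (Finset.prod_ne_zero_iff.2 fun i _ => leadingCoeff_ne_zero.2 (hne i)) ?_
    exact Matrix.det_vandermonde_ne_zero_iff.2 fun a b hab => he (Nat.cast_injective hab)
  rw [hM, coeff_zero] at hcoef
  exact hBne hcoef.symm

theorem det_wronskMat_change {N : ℕ} (p q : Fin N → k[X]) (U : Matrix (Fin N) (Fin N) k)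
    (h : ∀ i, q i = ∑ j, U i j • p j) :
    (wronskMat q).det = C U.det * (wronskMat p).det := by
  have hq : wronskMat q = U.map C * wronskMat p := by
    ext1 i j
    simp [wronskMat, Matrix.mul_apply, h i, iterate_derivative_sum, smul_eq_C_mul]
  rw [hq, Matrix.det_mul, RingHom.map_det, RingHom.mapMatrix_apply]

/-- The members of `W` divisible by `(X - c) ^ n`. -/
noncomputable def vanishAt (W : Submodule k k[X]) (c : k) (n : ℕ) : Submodule k k[X] :=
  W ⊓ (Ideal.span {(X - C c) ^ n}).restrictScalars k

/-- The members of `W` of degree at most `d - n` (zero only for `n > d`). -/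
noncomputable def vanishInf (W : Submodule k k[X]) (d n : ℕ) : Submodule k k[X] :=
  W ⊓ degreeLT k (d + 1 - n)

theorem mem_vanishAt {W : Submodule k k[X]} {c : k} {n : ℕ} {p : k[X]} :
    p ∈ vanishAt W c n ↔ p ∈ W ∧ (X - C c) ^ n ∣ p := by
  simp [vanishAt, Ideal.mem_span_singleton]

theorem isStepFiltration_vanishAt (W : Submodule k k[X]) (d : ℕ) (hW : W ≤ degreeLT k (d + 1))
    (c : k) : IsStepFiltration (vanishAt W c) d := by
  have hfin : FiniteDimensional k W := Submodule.finiteDimensional_of_le hW
  refine ⟨fun n p hp => ?_, ?_, ?_, fun n => ?_⟩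
  · rw [mem_vanishAt] at hp ⊢
    exact ⟨hp.1, dvd_trans (pow_dvd_pow _ (by omega)) hp.2⟩
  · rw [eq_bot_iff]
    intro p hp
    rw [mem_vanishAt] at hp
    by_contra hp0
    rw [Submodule.mem_bot] at hp0
    have h1 := natDegree_le_of_dvd hp.2 hp0
    have h2 := mem_degreeLT.1 (hW hp.1)
    rw [natDegree_pow, natDegree_X_sub_C, mul_one] at h1
    rw [← natDegree_lt_iff_degree_lt hp0] at h2
    omega
  · exact Submodule.finiteDimensional_of_le (inf_le_left : vanishAt W c 0 ≤ W)
  · have : FiniteDimensional k ↥(vanishAt W c n) := Submodule.finiteDimensional_of_le inf_le_left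
    let f : ↥(vanishAt W c n) →ₗ[k] k := (lcoeff k n).comp
      ((taylor c).comp (vanishAt W c n).subtype)
    have hker : (LinearMap.ker f).map (vanishAt W c n).subtype ≤ vanishAt W c (n + 1) := by
      rintro _ ⟨⟨p, hp⟩, hf, rfl⟩
      rw [mem_vanishAt] at hp ⊢
      refine ⟨hp.1, ?_⟩
      obtain ⟨q, rfl⟩ := hp.2
      have hq : q.eval c = 0 := by
        simp only [SetLike.mem_coe, LinearMap.mem_ker, f, LinearMap.comp_apply,
          Submodule.coe_subtype, lcoeff_apply, taylor_mul, taylor_pow, map_sub, taylor_X,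
          taylor_C, add_sub_cancel_right] at hf
        rw [coeff_X_pow_mul', if_pos le_rfl, Nat.sub_self, taylor_coeff_zero] at hf
        exact hf
      rw [pow_succ]
      exact mul_dvd_mul_left _ (dvd_iff_isRoot.2 hq)
    have h1 := LinearMap.finrank_range_add_finrank_ker f
    have h2 : finrank k (LinearMap.range f) ≤ 1 :=
      (Submodule.finrank_le _).trans (finrank_self k).le
    have h3 : finrank k (LinearMap.ker f) ≤ finrank k ↥(vanishAt W c (n + 1)) := by
      have : FiniteDimensional k ↥(vanishAt W c (n + 1)) :=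
        Submodule.finiteDimensional_of_le inf_le_left
      rw [← Submodule.finrank_map_subtype_eq (vanishAt W c n) (LinearMap.ker f)]
      exact Submodule.finrank_mono hker
    omega

theorem isStepFiltration_vanishInf (W : Submodule k k[X]) (d : ℕ) :
    IsStepFiltration (vanishInf W d) d := by
  have hfinLT : ∀ m, FiniteDimensional k ↥(degreeLT k m) := fun m =>
    Module.Finite.equiv (degreeLTEquiv k m).symm
  have hfin : ∀ n, FiniteDimensional k ↥(vanishInf W d n) := fun n =>
    have := hfinLT (d + 1 - n); Submodule.finiteDimensional_of_le inf_le_right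
  refine ⟨fun n => inf_le_inf_left _ (degreeLT_mono (by omega)), ?_, hfin 0, fun n => ?_⟩
  · rw [eq_bot_iff]
    intro p hp
    have h := mem_degreeLT.1 hp.2
    rw [Nat.sub_self] at h
    simpa using h
  · have := hfin n
    let f : ↥(vanishInf W d n) →ₗ[k] k := (lcoeff k (d - n)).comp (vanishInf W d n).subtype
    have hker : (LinearMap.ker f).map (vanishInf W d n).subtype ≤ vanishInf W d (n + 1) := by
      rintro _ ⟨⟨p, hp⟩, hf, rfl⟩
      refine ⟨hp.1, ?_⟩
      have hp2 := mem_degreeLT.1 hp.2
      simp only [SetLike.mem_coe, LinearMap.mem_ker, f, LinearMap.comp_apply,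
        Submodule.coe_subtype, lcoeff_apply] at hf
      rw [SetLike.mem_coe, mem_degreeLT, degree_lt_iff_coeff_zero]
      intro m hm
      simp only [Submodule.coe_subtype]
      rcases eq_or_lt_of_le (show d - n ≤ m by omega) with h | h
      · rw [← h]; exact hf
      · exact (degree_lt_iff_coeff_zero _ _).1 hp2 m (by omega)
    have h1 := LinearMap.finrank_range_add_finrank_ker f
    have h2 : finrank k (LinearMap.range f) ≤ 1 :=
      (Submodule.finrank_le _).trans (finrank_self k).le
    have h3 : finrank k (LinearMap.ker f) ≤ finrank k ↥(vanishInf W d (n + 1)) := by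
      have := hfin (n + 1)
      rw [← Submodule.finrank_map_subtype_eq (vanishInf W d n) (LinearMap.ker f)]
      exact Submodule.finrank_mono hker
    omega

/-- Pluecker bound for a space of polynomials of degree at most `d`. -/
theorem sum_vanish_le [CharZero k] (W : Submodule k k[X]) (d r : ℕ)
    (hW : W ≤ degreeLT k (d + 1)) (hr : finrank k W = r + 1) (s : Finset k) :
    (∑ c ∈ s, ∑ n ∈ range d, finrank k ↥(vanishAt W c (n + 1))) +
      ∑ n ∈ range d, finrank k ↥(vanishInf W d (n + 1)) + r * (r + 1) / 2 ≤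
      (r + 1) * d + s.card * (r * (r + 1) / 2) := by
  classical
  have hT : ∑ j : Fin (r + 1), (j : ℕ) = r * (r + 1) / 2 := by
    rw [Fin.sum_univ_eq_sum_range (fun i => i), Finset.sum_range_id, Nat.mul_comm]
    simp
  have hW0 : vanishInf W d 0 = W := by simp [vanishInf, hW]
  obtain ⟨m, v, hminj, hmd, hv, hli, hspan, hsum⟩ :=
    (isStepFiltration_vanishInf W d).exists_adapted r (by rw [hW0]; exact hr)
  have hne : ∀ i, v i ≠ 0 := fun i h => (hv i).2 (by simp [h])
  have hdeg : ∀ i, (v i).natDegree = d - m i := by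
    intro i
    have h1 := mem_degreeLT.1 (hv i).1.2
    rw [← natDegree_lt_iff_degree_lt (hne i)] at h1
    by_contra hlt
    refine (hv i).2 ⟨(hv i).1.1, ?_⟩
    rw [SetLike.mem_coe, mem_degreeLT, ← natDegree_lt_iff_degree_lt (hne i)]
    have := hmd i
    omega
  have hinj : Function.Injective fun i => d - m i := fun a b h => hminj (by
    have := hmd a; have := hmd b; simp only at h; omega)
  have hE : r * (r + 1) / 2 ≤ ∑ i, (d - m i) := hT ▸ sum_fin_le_sum_of_injective _ hinj
  have hne0 := det_wronskMat_ne_zero v _ hinj hdeg hne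
  have hd := natDegree_det_wronskMat_le v _ (fun i => (hdeg i).le)
  rw [hT] at hd
  have hkey : ∀ c ∈ s, ∑ n ∈ range d, finrank k ↥(vanishAt W c (n + 1)) ≤
      rootMultiplicity c (wronskMat v).det + r * (r + 1) / 2 := by
    intro c _
    have hW1 : vanishAt W c 0 = W := by
      ext p; simp [mem_vanishAt]
    obtain ⟨mc, vc, -, -, hvc, hlic, hspanc, hsumc⟩ :=
      (isStepFiltration_vanishAt W d hW c).exists_adapted r (by rw [hW1]; exact hr)
    have hmem : ∀ i, ∃ U : Fin (r + 1) → k, ∑ j, U j • vc j = v i := by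
      intro i
      rw [← Submodule.mem_span_range_iff_exists_fun, hspanc, hW1, ← hW0, ← hspan]
      exact Submodule.subset_span ⟨i, rfl⟩
    choose U hU using hmem
    have hdet := det_wronskMat_change vc v (Matrix.of U) fun i => (hU i).symm
    have hdvd := X_sub_C_pow_dvd_det_wronskMat vc c mc fun i => (mem_vanishAt.1 (hvc i).1).2
    rw [hT] at hdvd
    have := (le_rootMultiplicity_iff hne0).2 (hdet ▸ hdvd.mul_left (C (Matrix.of U).det))
    omega
  have hroots : ∑ c ∈ s, rootMultiplicity c (wronskMat v).det ≤ (wronskMat v).det.natDegree := by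
    refine le_trans ?_ (card_roots' _)
    simp only [← count_roots]
    calc ∑ c ∈ s, (wronskMat v).det.roots.count c
        ≤ ∑ c ∈ s ∪ (wronskMat v).det.roots.toFinset, (wronskMat v).det.roots.count c :=
          Finset.sum_le_sum_of_subset Finset.subset_union_left
      _ = _ := Multiset.sum_count_eq_card fun a ha =>
          Finset.mem_union_right _ (Multiset.mem_toFinset.2 ha)
  have hsk := Finset.sum_le_sum hkey
  rw [Finset.sum_add_distrib, Finset.sum_const, smul_eq_mul] at hsk
  have hdm : ∑ i, (d - m i) + ∑ n ∈ range d, finrank k ↥(vanishInf W d (n + 1)) = (r + 1) * d := by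
    rw [← hsum, ← Finset.sum_add_distrib,
      Finset.sum_congr rfl fun i _ => Nat.sub_add_cancel (hmd i)]
    simp
  omega

end Groth.Agent.LLS31
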