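import Groth.Agent.LLS31.Aspect
import Groth.Agent.LLS31.PolyPlucker

/-! The Pluecker bound on a function field of genus zero. -/

namespace Groth.Agent.LLS31

open FunFld Module Finset
open scoped Polynomial

variable {k K : Type*} [Field k] [Field K] [Algebra k K]

/-- Over an algebraically closed field: no sections in negative degree, and the Riemann inequality
of genus zero. -/
structure IsGenusZero (k K : Type*) [Field k] [Field K] [Algebra k K] : Prop where
  isAlgClosed : IsAlgClosed k
  ff : IsFunctionField k K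
  neg : ∀ E : Divisor k K, E.deg < 0 → L E = ⊥
  ell : ∀ E : Divisor k K, 0 ≤ E.deg → E.deg + 1 ≤ finrank k ↥(L E)

theorem mem_L_iff {D : Divisor k K} {x : K} :
    x ∈ L D ↔ ∀ P : Place k K, P.1 x ≤ WithZero.exp (D P) := Iff.rfl

namespace IsGenusZero

theorem finite_L (h : IsGenusZero k K) {E : Divisor k K} (hE : 0 ≤ E.deg) :
    FiniteDimensional k ↥(L E) :=
  Module.finite_of_finrank_pos (by have := h.ell E hE; omega)

theorem eq_exp_of_deg_zero (h : IsGenusZero k K) {E : Divisor k K} (hE : E.deg = 0) {x : K}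
    (hx : x ∈ L E) (hx0 : x ≠ 0) (P : Place k K) : P.1 x = WithZero.exp (E P) := by
  have := h.isAlgClosed
  by_contra hne
  have hmem : x ∈ L (E - Finsupp.single P 1) := by
    intro R
    by_cases hR : R = P
    · subst hR
      simpa using le_exp_sub_one_of_lt (lt_of_le_of_ne (hx R) hne)
    · simpa [Finsupp.single_eq_of_ne hR] using hx R
  rw [h.neg _ (by rw [deg_sub_single h.ff, hE]; omega)] at hmem
  exact hx0 ((Submodule.mem_bot k).1 hmem)

theorem finrank_L_eq (h : IsGenusZero k K) (R : Place k K) (n : ℕ) :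
    ∀ E : Divisor k K, E.deg = n → finrank k ↥(L E) = n + 1 := by
  have := h.isAlgClosed
  intro E hE
  have hlow := h.ell E (by omega)
  have := h.finite_L (E := E) (by omega)
  refine le_antisymm ?_ (by omega)
  clear hlow this
  induction n generalizing E with
  | zero =>
    have := h.finite_L (E := E) (by omega)
    have h1 := finrank_inf_L_le_succ h.ff (L E) E R
    rw [inf_idem, h.neg (E - Finsupp.single R 1) (by rw [deg_sub_single h.ff, hE]; omega),
      inf_bot_eq, finrank_bot] at h1
    exact h1
  | succ n ih =>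
    have := h.finite_L (E := E) (by omega)
    have h1 := finrank_inf_L_le_succ h.ff (L E) E R
    rw [inf_idem, inf_eq_right.2 (L_mono (sub_le_self _ (Finsupp.single_nonneg.2 zero_le_one)))]
      at h1
    have := ih (E - Finsupp.single R 1) (by rw [deg_sub_single h.ff, hE]; omega)
    omega

/-- A coordinate with its only pole, a simple one, at `R`. -/
theorem exists_coordinate (h : IsGenusZero k K) (R : Place k K) :
    ∃ t : K, t ∈ L (Finsupp.single R (1 : ℤ)) ∧ R.1 t = WithZero.exp 1 := by
  by_contra hcon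
  push Not at hcon
  have := h.isAlgClosed
  have h1 : L (Finsupp.single R (1 : ℤ)) ≤ L (0 : Divisor k K) := by
    intro x hx P
    by_cases hP : P = R
    · subst hP
      have h0 := hx P
      rw [Finsupp.single_eq_same] at h0
      have := le_exp_sub_one_of_lt (lt_of_le_of_ne h0 (hcon x hx))
      simpa using this
    · simpa [Finsupp.single_eq_of_ne hP] using hx P
  have hd0 : Divisor.deg (0 : Divisor k K) = 0 := by simp [Divisor.deg]
  have := h.finite_L (E := (0 : Divisor k K)) hd0.ge
  have h2 := Submodule.finrank_mono h1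
  rw [h.finrank_L_eq R 0 0 (by simpa using hd0),
    h.finrank_L_eq R 1 _ (by rw [deg_single, deg_place_eq_one h.ff R]; simp)] at h2
  omega

theorem sum_S_le [CharZero k] (h : IsGenusZero k K) {D : Divisor k K} {V : Submodule k K}
    {d r : ℕ} (hs : IsSeries k D V d r) (s : Finset (Place k K)) (hsne : s.Nonempty) :
    ∑ P ∈ s, S V D P d + r * (r + 1) ≤ (r + 1) * d + s.card * (r * (r + 1) / 2) := by
  classical
  have := h.isAlgClosed
  obtain ⟨R, hR⟩ := hsne
  obtain ⟨t, htL, htR⟩ := h.exists_coordinate R
  have hdegDR : (D - Finsupp.single R (d : ℤ)).deg = 0 := by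
    rw [deg_sub_single h.ff, hs.deg, sub_self]
  obtain ⟨g, hg, hg0⟩ : ∃ g ∈ L (D - Finsupp.single R (d : ℤ)), g ≠ 0 := by
    refine Submodule.exists_mem_ne_zero_of_ne_bot fun hb => ?_
    have := h.ell _ hdegDR.ge
    rw [hb, finrank_bot, hdegDR] at this
    omega
  have hgv := fun P => h.eq_exp_of_deg_zero hdegDR hg hg0 P
  have hval : ∀ P : Place k K, P ≠ R → P.1 t ≤ 1 := fun P hP => by
    simpa [Finsupp.single_eq_of_ne hP] using htL P
  have hpolR : ∀ p : k[X], p ≠ 0 → R.1 (Polynomial.aeval t p) = WithZero.exp (p.natDegree : ℤ) := by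
    intro p hp
    rw [(IsAlgClosed.splits p).eq_prod_roots]
    rw [map_mul, Polynomial.aeval_C, map_mul, val_algebraMap R (Polynomial.leadingCoeff_ne_zero.2 hp),
      one_mul, map_multiset_prod, map_multiset_prod, Multiset.map_map, Multiset.map_map,
      Multiset.map_congr rfl (g := fun _ : k => WithZero.exp (1 : ℤ)) fun c _ => ?_,
      Multiset.map_const', Multiset.prod_replicate, ← WithZero.exp_nsmul,
      ← (IsAlgClosed.splits p).natDegree_eq_card_roots]
    · rw [← (IsAlgClosed.splits p).eq_prod_roots, nsmul_one]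
    · simp only [Function.comp_apply, map_sub, Polynomial.aeval_X, Polynomial.aeval_C]
      rw [R.1.map_sub_eq_of_lt_left]
      · exact htR
      · rw [htR]
        exact (R.2.1 c).trans_lt (by rw [← WithZero.exp_zero, WithZero.exp_lt_exp]; omega)
  have hmemdR : ∀ p : k[X], p ∈ Polynomial.degreeLT k (d + 1) →
      Polynomial.aeval t p ∈ L (Finsupp.single R (d : ℤ)) := by
    intro p hp
    rcases eq_or_ne p 0 with rfl | hp0
    · simp
    intro P
    by_cases hP : P = R
    · subst hP
      rw [Finsupp.single_eq_same, hpolR p hp0, WithZero.exp_le_exp]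
      have := Polynomial.mem_degreeLT.1 hp
      rw [← Polynomial.natDegree_lt_iff_degree_lt hp0] at this
      omega
    · rw [Finsupp.single_eq_of_ne hP, WithZero.exp_zero]
      induction p using Polynomial.induction_on' with
      | monomial n a =>
        simp only [Polynomial.aeval_monomial, map_mul, map_pow]
        exact mul_le_one' (P.2.1 a) (pow_le_one₀ zero_le (hval P hP))
      | add p q _ _ =>
        rw [Polynomial.aeval_def, Polynomial.eval₂_eq_sum_range]
        refine P.1.map_sum_le fun i _ => ?_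
        rw [map_mul, map_pow]
        exact mul_le_one' (P.2.1 _) (pow_le_one₀ zero_le (hval P hP))
  let Φ : k[X] →ₗ[k] K :=
    (LinearMap.mulLeft k g).comp (Polynomial.aeval t).toLinearMap
  have hΦinj : Function.Injective Φ := by
    rw [← LinearMap.ker_eq_bot, eq_bot_iff]
    intro p hp
    rw [Submodule.mem_bot]
    by_contra hp0
    have h1 : Polynomial.aeval t p = 0 := by
      simpa [Φ, hg0] using hp
    have := hpolR p hp0
    rw [h1, map_zero] at this
    exact WithZero.exp_ne_zero this.symm
  have hΦapp : ∀ (p : k[X]) (P : Place k K),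
      P.1 (Φ p) = WithZero.exp (D P - Finsupp.single R (d : ℤ) P) * P.1 (Polynomial.aeval t p) := by
    intro p P
    show P.1 (g * _) = _
    rw [map_mul, hgv P, Finsupp.sub_apply]
    rfl
  have hmap : (Polynomial.degreeLT k (d + 1)).map Φ = L D := by
    have : FiniteDimensional k ↥(L D) := h.finite_L (by rw [hs.deg]; omega)
    refine Submodule.eq_of_le_of_finrank_eq ?_ ?_
    · rintro _ ⟨p, hp, rfl⟩
      intro P
      rw [hΦapp p P]
      refine (mul_le_mul' le_rfl (hmemdR p hp P)).trans ?_
      rw [← WithZero.exp_add, sub_add_cancel]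
    · rw [h.finrank_L_eq R d D hs.deg,
        ← (Submodule.equivMapOfInjective Φ hΦinj _).finrank_eq,
        (Polynomial.degreeLTEquiv k (d + 1)).finrank_eq, finrank_fin_fun]
  let W : Submodule k k[X] := V.comap Φ ⊓ Polynomial.degreeLT k (d + 1)
  have hWV : W.map Φ = V := by
    refine le_antisymm ?_ fun x hx => ?_
    · rintro _ ⟨p, hp, rfl⟩
      exact hp.1
    · obtain ⟨p, hp, rfl⟩ := hmap ▸ hs.le hx
      exact ⟨p, ⟨hx, hp⟩, rfl⟩
  have hWr : finrank k W = r + 1 := by
    rw [(Submodule.equivMapOfInjective Φ hΦinj W).finrank_eq, hWV, hs.rank]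
  have hWfin : FiniteDimensional k W := Module.finite_of_finrank_pos (by omega)
  have hval' : ∀ P : Place k K, P ≠ R → ∃ c : k, P.1 (t - algebraMap k K c) = WithZero.exp (-1) ∧
      ∀ P' : Place k K, P' ≠ R → P' ≠ P → P'.1 (t - algebraMap k K c) = 1 := by
    intro P hP
    obtain ⟨c, hc⟩ := exists_val_sub_lt_one h.ff P (hval P hP)
    have hmem : t - algebraMap k K c ∈ L (Finsupp.single R (1 : ℤ) - Finsupp.single P 1) := by
      intro P'
      by_cases h1 : P' = P
      · subst h1
        simpa [Finsupp.single_eq_of_ne hP] using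
          le_exp_sub_one_of_lt (hc.trans_eq WithZero.exp_zero.symm)
      · rw [Finsupp.sub_apply, Finsupp.single_eq_of_ne h1, sub_zero]
        refine (P'.1.map_sub _ _).trans (max_le (htL P') ((P'.2.1 c).trans ?_))
        rw [← WithZero.exp_zero, WithZero.exp_le_exp]
        by_cases h2 : P' = R
        · subst h2; simp
        · simp [Finsupp.single_eq_of_ne h2]
    have hne : t - algebraMap k K c ≠ 0 := fun h0 => by
      rw [sub_eq_zero] at h0
      have h1 := R.2.1 c
      rw [← h0, htR, ← WithZero.exp_zero, WithZero.exp_le_exp] at h1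
      omega
    have heq := fun P' => h.eq_exp_of_deg_zero
      (by rw [deg_sub_single h.ff, deg_single, deg_place_eq_one h.ff R]; simp) hmem hne P'
    refine ⟨c, ?_, fun P' h1 h2 => ?_⟩
    · simp [heq P, Finsupp.single_eq_of_ne hP]
    · simp [heq P', Finsupp.single_eq_of_ne h1, Finsupp.single_eq_of_ne h2]
  choose! cP hcP hcP' using hval'
  have hinj : Set.InjOn cP (s.erase R : Set (Place k K)) := by
    intro P hP Q hQ hPQ
    simp only [Finset.coe_erase, Set.mem_sdiff, Set.mem_singleton_iff] at hP hQ
    by_contra hne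
    have h1 := hcP' P hP.2 Q hQ.2 (Ne.symm hne)
    rw [hPQ, hcP Q hQ.2, ← WithZero.exp_zero, WithZero.exp_inj] at h1
    omega
  have hinf : S V D R d ≤ ∑ n ∈ range d, finrank k ↥(vanishInf W d (n + 1)) := by
    refine Finset.sum_le_sum fun n hn => ?_
    rw [Finset.mem_range] at hn
    have : FiniteDimensional k ↥(vanishInf W d (n + 1)) :=
      Submodule.finiteDimensional_of_le inf_le_left
    refine (Submodule.finrank_mono (t := (vanishInf W d (n + 1)).map Φ) ?_).trans
      (Submodule.finrank_map_le Φ _)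
    intro x hx
    obtain ⟨p, hp, rfl⟩ := hWV.symm ▸ hx.1
    refine ⟨p, ⟨hp, ?_⟩, rfl⟩
    rcases eq_or_ne p 0 with rfl | hp0
    · exact Submodule.zero_mem _
    have h1 := hx.2 R
    rw [hΦapp p R, Finsupp.single_eq_same, hpolR p hp0, ← WithZero.exp_add, Finsupp.sub_apply,
      Finsupp.single_eq_same, WithZero.exp_le_exp] at h1
    rw [SetLike.mem_coe, Polynomial.mem_degreeLT, ← Polynomial.natDegree_lt_iff_degree_lt hp0]
    omega
  have hat : ∀ P ∈ s.erase R,
      S V D P d ≤ ∑ n ∈ range d, finrank k ↥(vanishAt W (cP P) (n + 1)) := by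
    intro P hP
    have hPR := (Finset.mem_erase.1 hP).1
    refine Finset.sum_le_sum fun n _ => ?_
    have : FiniteDimensional k ↥(vanishAt W (cP P) (n + 1)) :=
      Submodule.finiteDimensional_of_le inf_le_left
    refine (Submodule.finrank_mono (t := (vanishAt W (cP P) (n + 1)).map Φ) ?_).trans
      (Submodule.finrank_map_le Φ _)
    intro x hx
    obtain ⟨p, hp, rfl⟩ := hWV.symm ▸ hx.1
    refine ⟨p, mem_vanishAt.2 ⟨hp, ?_⟩, rfl⟩
    rcases eq_or_ne p 0 with rfl | hp0
    · simp
    obtain ⟨q, hq, hqc⟩ := Polynomial.exists_eq_pow_rootMultiplicity_mul_and_not_dvd p hp0 (cP P)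
    have hq1 : P.1 (Polynomial.aeval t q) = 1 := by
      obtain ⟨q', hq'⟩ := Polynomial.X_sub_C_dvd_sub_C_eval (a := cP P) (p := q)
      have heval : q.eval (cP P) ≠ 0 := fun h0 => hqc (Polynomial.dvd_iff_isRoot.2 h0)
      have hq2 : P.1 (Polynomial.aeval t q') ≤ 1 := by
        rw [Polynomial.aeval_def, Polynomial.eval₂_eq_sum_range]
        refine P.1.map_sum_le fun i _ => ?_
        rw [map_mul, map_pow]
        exact mul_le_one' (P.2.1 _) (pow_le_one₀ zero_le (hval P hPR))
      have h3 := congrArg (Polynomial.aeval t) hq'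
      simp only [map_sub, map_mul, Polynomial.aeval_X, Polynomial.aeval_C] at h3
      rw [sub_eq_iff_eq_add'.1 h3, P.1.map_add_eq_of_lt_left, val_algebraMap P heval]
      rw [val_algebraMap P heval, map_mul, hcP P hPR]
      refine (mul_le_of_le_one_right' hq2).trans_lt ?_
      rw [← WithZero.exp_zero, WithZero.exp_lt_exp]; omega
    have h1 := hx.2 P
    rw [hΦapp p P, Finsupp.single_eq_of_ne hPR, hq, map_mul, map_mul, map_pow, map_pow, map_sub,
      Polynomial.aeval_X, Polynomial.aeval_C, hcP P hPR, hq1, mul_one, ← WithZero.exp_nsmul,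
      ← WithZero.exp_add, Finsupp.sub_apply, Finsupp.single_eq_same, WithZero.exp_le_exp,
      nsmul_eq_mul] at h1
    exact (Polynomial.le_rootMultiplicity_iff hp0).1 (by omega)
  have hP := sum_vanish_le W d r inf_le_right hWr ((s.erase R).image cP)
  rw [Finset.sum_image hinj, Finset.card_image_of_injOn hinj, Finset.card_erase_of_mem hR] at hP
  have hsum := Finset.sum_le_sum hat
  rw [← Finset.add_sum_erase s _ hR]
  have hcard : 0 < s.card := Finset.card_pos.2 ⟨R, hR⟩
  obtain ⟨c, hc⟩ : ∃ c, s.card = c + 1 := ⟨s.card - 1, by omega⟩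
  rw [hc, Nat.add_sub_cancel] at hP
  rw [hc, add_mul c 1 (r * (r + 1) / 2), one_mul]
  have hev : 2 * (r * (r + 1) / 2) = r * (r + 1) :=
    Nat.two_mul_div_two_of_even (Nat.even_mul_succ_self r)
  omega

end IsGenusZero

end Groth.Agent.LLS31
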