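import Groth.Agent.LLS31.LinEquiv
import Groth.Agent.LLS31.Bridge

/-! Genus one. -/

namespace Groth.Agent.LLS31

open FunFld Module

variable {k K : Type*} [Field k] [Field K] [Algebra k K]

theorem ell_of_genus_one (hK : IsFunctionField k K) (hg : genus k K = 1) {D : Divisor k K}
    (hd : 0 < D.deg) : (finrank k ↥(L D) : ℤ) = D.deg := by
  have := FF30.ell_eq_of_deg_gt hK (D := D) (by rw [hg]; norm_num; omega)
  rw [hg, ell] at this
  omega

theorem ell_deg_zero_le_one (hK : IsFunctionField k K) {D : Divisor k K} (hd : D.deg = 0) :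
    finrank k ↥(L D) ≤ 1 := by
  rcases Nat.eq_zero_or_pos (ell D) with h | h
  · rw [ell] at h; omega
  · exact le_of_eq ((prin_of_deg_zero hK hd h).ell_eq_one hK)

theorem L_single_sub_inf (A Q : Place k K) (hQ : Q ≠ A) {a b : ℤ} (hab : a ≤ b) (n : ℤ) :
    L (Finsupp.single A b - Finsupp.single Q n) ⊓ L (Finsupp.single A a) =
      L (Finsupp.single A a - Finsupp.single Q n) ⊓ L (Finsupp.single A a) := by
  classical
  ext x
  simp only [Submodule.mem_inf]
  refine ⟨fun h => ⟨fun R => ?_, h.2⟩, fun h => ⟨L_mono (fun R => ?_) h.1, h.2⟩⟩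
  · rcases eq_or_ne R Q with rfl | hR
    · simpa [Finsupp.single_eq_of_ne hQ] using h.1 R
    · simpa [Finsupp.single_eq_of_ne hR] using h.2 R
  · simp only [Finsupp.sub_apply, Finsupp.single_apply]
    split_ifs <;> omega

theorem linearIndependent_of_injective_val {ι : Type*} [Fintype ι] (P : Place k K) (v : ι → K)
    (h0 : ∀ i, v i ≠ 0) (hinj : Function.Injective fun i => P.1 (v i)) :
    LinearIndependent k v := by
  classical
  rw [Fintype.linearIndependent_iff]
  intro c hc
  by_contra h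
  push Not at h
  have hs : (Finset.univ.filter fun i => c i ≠ 0).Nonempty := by
    obtain ⟨i, hi⟩ := h
    exact ⟨i, by simp [hi]⟩
  obtain ⟨i₀, hi₀, hmax⟩ := Finset.exists_max_image _ (fun i => P.1 (v i)) hs
  simp only [Finset.mem_filter, Finset.mem_univ, true_and] at hi₀ hmax
  have hv : P.1 (∑ i, c i • v i) = P.1 (c i₀ • v i₀) := by
    refine P.1.map_sum_eq_of_lt (Finset.mem_univ i₀) fun i hi => ?_
    simp only [Finset.mem_sdiff, Finset.mem_singleton] at hi
    rcases eq_or_ne (c i) 0 with hci | hci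
    · rw [hci, zero_smul, map_zero, FF30.val_smul P hi₀]
      exact zero_lt_iff.2 (FF30.val_ne_zero P (h0 i₀))
    · rw [FF30.val_smul P hci, FF30.val_smul P hi₀]
      exact lt_of_le_of_ne (hmax i hci) fun he => hi.2 (hinj he)
  rw [hc, map_zero, FF30.val_smul P hi₀] at hv
  exact FF30.val_ne_zero P (h0 i₀) hv.symm

/-- The exceptional inclusions of `L(gA - nQ)` in a hyperplane containing `L((g-2)A)`. -/
theorem hyperplane_bound [IsAlgClosed k] (hK : IsFunctionField k K) (hg : genus k K = 1) {g : ℕ}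
    (h3 : 3 ≤ g) {A Q : Place k K} (hQ : Q ≠ A) {V : Submodule k K}
    (hlo : L (Finsupp.single A ((g : ℤ) - 2)) ≤ V) (hhi : V ≤ L (Finsupp.single A (g : ℤ)))
    (hdim : finrank k ↥V + 1 = g) (n : ℕ) (hn1 : 1 ≤ n) (hn : n + 2 ≤ g)
    (hn' : n + 2 = g → finrank k ↥(L (Finsupp.single A ((n : ℤ)) - Finsupp.single Q (n : ℤ))) = 0) :
    finrank k ↥(V ⊓ L (Finsupp.single A (g : ℤ) - Finsupp.single Q (n : ℤ))) + n + 1 ≤ g := by
  classical
  have hdeg := deg_place_eq_one (k := k) hK
  have hgfin := finiteDimensional_L hK (Finsupp.single A (g : ℤ)) A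
  have hfin := Submodule.finiteDimensional_of_le hhi
  set E := (Finsupp.single A (g : ℤ) - Finsupp.single Q (n : ℤ) : Divisor k K)
  have hE : (finrank k ↥(L E) : ℤ) = g - n := by
    have : Divisor.deg E = (g : ℤ) - n := by simp [E, deg_sub, deg_single, hdeg]
    rw [ell_of_genus_one hK hg (by omega), this]
  have := finiteDimensional_L hK E A
  have hle : finrank k ↥(V ⊓ L E) ≤ finrank k ↥(L E) := Submodule.finrank_mono inf_le_right
  rcases lt_or_eq_of_le hle with hlt | heq
  · omega
  exfalso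
  have hEV : L E ≤ V := inf_eq_right.1 (Submodule.eq_of_le_of_finrank_eq inf_le_right heq)
  set U := L (Finsupp.single A ((g : ℤ) - 2))
  have := finiteDimensional_L hK (Finsupp.single A ((g : ℤ) - 2)) A
  have hU : (finrank k ↥U : ℤ) = g - 2 := by
    rw [ell_of_genus_one hK hg (by rw [deg_single, hdeg]; omega), deg_single, hdeg]
    simp
  have hI : (finrank k ↥(L E ⊓ U) : ℤ) ≤ g - 2 - n := by
    rw [L_single_sub_inf A Q hQ (by omega) (n : ℤ)]
    have hd : Divisor.deg (Finsupp.single A ((g : ℤ) - 2) - Finsupp.single Q (n : ℤ) : Divisor k K) =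
        g - 2 - n := by simp [deg_sub, deg_single, hdeg]
    have := finiteDimensional_L hK (Finsupp.single A ((g : ℤ) - 2) - Finsupp.single Q (n : ℤ)) A
    refine (Int.ofNat_le.2 (Submodule.finrank_mono inf_le_left)).trans (le_of_eq ?_)
    rcases eq_or_lt_of_le hn with hng | hng
    · rw [show (g : ℤ) - 2 = n by omega, hn' hng, sub_self]
      rfl
    · rw [ell_of_genus_one hK hg (by omega), hd]
  have hsum := Submodule.finrank_sup_add_finrank_inf_eq (L E) U
  have hV := Submodule.finrank_mono (sup_le hEV hlo)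
  omega

end Groth.Agent.LLS31
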