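import Groth.Agent.LLS31.Bridge

/-! Bounds in positive genus. -/

namespace Groth.Agent.LLS31

open FunFld Module

variable {k K : Type*} [Field k] [Field K] [Algebra k K]

theorem finrank_L_single_le [IsAlgClosed k] (hK : IsFunctionField k K) (hg : 0 < genus k K)
    (P : Place k K) (m : ℕ) (hm : 1 ≤ m) :
    finrank k ↥(L (Finsupp.single P (m : ℤ))) ≤ m := by
  induction m with
  | zero => omega
  | succ m ih =>
    rcases Nat.eq_zero_or_pos m with rfl | hm0
    · exact finrank_L_le_one_of_genus_pos hK hg (by rw [deg_single, deg_place_eq_one hK]; simp)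
    · have := finiteDimensional_L hK (Finsupp.single P ((m + 1 : ℕ) : ℤ)) P
      have h1 := finrank_inf_L_le_succ hK (L (Finsupp.single P ((m + 1 : ℕ) : ℤ)))
        (Finsupp.single P ((m + 1 : ℕ) : ℤ)) P
      rw [← Finsupp.single_sub, show ((m + 1 : ℕ) : ℤ) - 1 = (m : ℤ) by push_cast; ring, inf_idem,
        inf_eq_right.2 (L_mono (Finsupp.single_le_single.2 (by omega)))] at h1
      have := ih hm0
      omega

end Groth.Agent.LLS31
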