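import Groth.Agent.LLS31.Aspect
import Groth.Agent.FF30.RR
import Groth.Agent.FF30.Rational

/-! Linear equivalence calculus. -/

namespace Groth.Agent.LLS31

open FunFld

variable {k K : Type*} [Field k] [Field K] [Algebra k K]

/-- `D` is principal. -/
def Prin (D : Divisor k K) : Prop := ∃ x : K, x ≠ 0 ∧ D = div k x

variable {D E : Divisor k K}

theorem Prin.neg (hK : IsFunctionField k K) (h : Prin D) : Prin (-D) := by
  obtain ⟨x, hx, rfl⟩ := h
  exact ⟨x⁻¹, inv_ne_zero hx, ((FF30.FF.of_isFunctionField hK).div_inv x).symm⟩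

theorem Prin.add (hK : IsFunctionField k K) (h : Prin D) (h' : Prin E) : Prin (D + E) := by
  obtain ⟨x, hx, rfl⟩ := h
  obtain ⟨y, hy, rfl⟩ := h'
  exact ⟨x * y, mul_ne_zero hx hy, ((FF30.FF.of_isFunctionField hK).div_mul hx hy).symm⟩

theorem Prin.sub (hK : IsFunctionField k K) (h : Prin D) (h' : Prin E) : Prin (D - E) :=
  sub_eq_add_neg D E ▸ h.add hK (h'.neg hK)

theorem Prin.ell_add (hK : IsFunctionField k K) (h : Prin D) (E : Divisor k K) :
    ell (E + D) = ell E := by
  obtain ⟨x, hx, rfl⟩ := h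
  exact (FF30.FF.of_isFunctionField hK).ell_add_div E hx

theorem Prin.ell_eq_one (hK : IsFunctionField k K) (h : Prin D) : ell D = 1 := by
  simpa [FF30.ell_zero hK] using h.ell_add hK 0

theorem exists_prin_ge (hK : IsFunctionField k K) (h : 0 < ell D) :
    ∃ N, Prin N ∧ 0 ≤ D + N := by
  obtain ⟨x, hx, h0⟩ := (FF30.FF.of_isFunctionField hK).exists_equiv_ge_of_ell_sub_pos
    (D := D) (D₀ := 0) (by simpa using h)
  exact ⟨div k x, ⟨x, hx, rfl⟩, h0⟩

theorem prin_of_deg_zero (hK : IsFunctionField k K) (hd : D.deg = 0) (h : 0 < ell D) : Prin D := by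
  obtain ⟨N, hN, h0⟩ := exists_prin_ge hK h
  obtain ⟨x, hx, rfl⟩ := id hN
  have h1 := (FF30.FF.of_isFunctionField hK).eq_of_le_of_deg_le h0 (by
    rw [FF30.deg_add, hd, (FF30.FF.of_isFunctionField hK).deg_div]; simp [Divisor.deg])
  rw [eq_neg_of_add_eq_zero_left h1.symm]
  exact hN.neg hK

theorem exists_place_of_deg_one (hK : IsFunctionField k K) (hd : D.deg = 1) (h : 0 < ell D) :
    ∃ R : Place k K, Prin (Finsupp.single R 1 - D) := by
  obtain ⟨N, hN, h0⟩ := exists_prin_ge hK h
  obtain ⟨x, hx, rfl⟩ := id hN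
  obtain ⟨R, -, hR⟩ := (FF30.FF.of_isFunctionField hK).eq_single_of_deg_one h0 (by
    rw [FF30.deg_add, hd, (FF30.FF.of_isFunctionField hK).deg_div, add_zero])
  exact ⟨R, by rwa [← hR, add_sub_cancel_left]⟩

/-- A divisor with a section lying below a rigid effective divisor is effective. -/
theorem nonneg_of_le_of_ell (hK : IsFunctionField k K) (hD : 0 ≤ D) (h1 : ell D ≤ 1) (hle : E ≤ D)
    (hE : 0 < ell E) : 0 ≤ E := by
  have := (FF30.FF.of_isFunctionField hK).finite_L D
  obtain ⟨x, hx, hx0⟩ := FF30.exists_ne_zero_of_ell_pos hE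
  have hone : (1 : K) ∈ L D := fun P => by
    rw [map_one, ← WithZero.exp_zero, WithZero.exp_le_exp]; exact hD P
  have heq : Submodule.span k {(1 : K)} = L D :=
    Submodule.eq_of_le_of_finrank_le ((Submodule.span_singleton_le_iff_mem _ _).2 hone)
      (by rw [finrank_span_singleton one_ne_zero]; exact h1)
  have hxD : x ∈ L D := L_mono hle hx
  obtain ⟨c, rfl⟩ := Submodule.mem_span_singleton.1 (heq ▸ hxD : x ∈ Submodule.span k {(1 : K)})
  have hc : c ≠ 0 := fun h => hx0 (by simp [h])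
  intro P
  have := hx P
  rw [FF30.val_smul P hc, map_one, ← WithZero.exp_zero, WithZero.exp_le_exp] at this
  exact this

theorem two_le_ell_of_prin (hK : IsFunctionField k K) {C : Divisor k K} (h : Prin (D - C))
    (hg : ell C = 2) : ell D = 2 := by
  rw [← hg, ← h.ell_add hK C, add_sub_cancel]

theorem prin_of_genus_two (hK : IsFunctionField k K) {C : Divisor k K} (hC : IsCanonical k K C)
    (hg : genus k K = 2) (hd : D.deg = 2) (h : 2 ≤ ell D) : Prin (C - D) := by
  have h1 := FF30.riemann_roch' hK hC D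
  have h2 := FF30.deg_canonical hK hC
  exact prin_of_deg_zero hK (by rw [deg_sub, h2, hd, hg]; norm_num) (by omega)

end Groth.Agent.LLS31
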