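import Groth.Agent.LLS31.Aspect

/-! Members vanishing at two points. -/

namespace Groth.Agent.LLS31

open FunFld Module

variable {k K : Type*} [Field k] [Field K] [Algebra k K]

/-- Members vanishing to orders `i` and `j` at `P` and `Q`. -/
noncomputable def van2 (V : Submodule k K) (D : Divisor k K) (P Q : Place k K) (i j : ℤ) :
    Submodule k K :=
  V ⊓ L (D - Finsupp.single P i - Finsupp.single Q j)

variable {V : Submodule k K} {D : Divisor k K} {P Q : Place k K}

theorem van2_mono {i i' j j' : ℤ} (hi : i ≤ i') (hj : j ≤ j') :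
    van2 V D P Q i' j' ≤ van2 V D P Q i j :=
  inf_le_inf_left _ (L_mono (sub_le_sub (sub_le_sub_left (Finsupp.single_le_single.2 hi) D)
    (Finsupp.single_le_single.2 hj)))

theorem van2_inf (hPQ : P ≠ Q) {i i' j j' : ℤ} :
    van2 V D P Q i j ⊓ van2 V D P Q i' j' = van2 V D P Q (max i i') (max j j') := by
  classical
  refine le_antisymm (fun x hx => ⟨hx.1.1, fun R => ?_⟩)
    (le_inf (van2_mono (le_max_left _ _) (le_max_left _ _))
      (van2_mono (le_max_right _ _) (le_max_right _ _)))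
  have h1 := hx.1.2 R
  have h2 := hx.2.2 R
  rcases eq_or_ne R P with rfl | hP
  · simp only [Finsupp.sub_apply, Finsupp.single_eq_same, Finsupp.single_eq_of_ne hPQ, sub_zero] at h1 h2 ⊢
    rcases le_total i i' with h | h
    · rwa [max_eq_right h]
    · rwa [max_eq_left h]
  rcases eq_or_ne R Q with rfl | hQ
  · simp only [Finsupp.sub_apply, Finsupp.single_eq_same, Finsupp.single_eq_of_ne hP, sub_zero] at h1 h2 ⊢
    rcases le_total j j' with h | h
    · rwa [max_eq_right h]
    · rwa [max_eq_left h]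
  simpa [Finsupp.single_eq_of_ne hP, Finsupp.single_eq_of_ne hQ] using h1

theorem finite_van2 [FiniteDimensional k V] (i j : ℤ) : FiniteDimensional k ↥(van2 V D P Q i j) :=
  Submodule.finiteDimensional_of_le inf_le_left

theorem van2_step_left [IsAlgClosed k] (hK : IsFunctionField k K) [FiniteDimensional k V] (i j : ℤ) :
    finrank k ↥(van2 V D P Q i j) ≤ finrank k ↥(van2 V D P Q (i + 1) j) + 1 := by
  have h := finrank_inf_L_le_succ hK V (D - Finsupp.single P i - Finsupp.single Q j) P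
  rwa [show D - Finsupp.single P i - Finsupp.single Q j - Finsupp.single P 1 =
    D - Finsupp.single P (i + 1) - Finsupp.single Q j by rw [Finsupp.single_add]; abel] at h

theorem van2_step_right [IsAlgClosed k] (hK : IsFunctionField k K) [FiniteDimensional k V] (i j : ℤ) :
    finrank k ↥(van2 V D P Q i j) ≤ finrank k ↥(van2 V D P Q i (j + 1)) + 1 := by
  have h := finrank_inf_L_le_succ hK V (D - Finsupp.single P i - Finsupp.single Q j) Q
  rwa [show D - Finsupp.single P i - Finsupp.single Q j - Finsupp.single Q 1 =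
    D - Finsupp.single P i - Finsupp.single Q (j + 1) by rw [Finsupp.single_add]; abel] at h

theorem special_pair_iff [IsAlgClosed k] (hK : IsFunctionField k K) [FiniteDimensional k V]
    (hPQ : P ≠ Q) (a b : ℤ) :
    let f := fun i j => finrank k ↥(van2 V D P Q i j)
    ((2 ≤ f a (b - 1) ∨ 1 ≤ f a (b + 1)) ∧ (2 ≤ f (a - 1) b ∨ 1 ≤ f (a + 1) b)) ↔
      (1 ≤ f (a + 1) (b + 1) ∨ 3 ≤ f (a - 1) (b - 1) ∨
        (1 ≤ f a (b + 1) ∧ 2 ≤ f (a - 1) b) ∨ (1 ≤ f (a + 1) b ∧ 2 ≤ f a (b - 1))) := by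
  intro f
  have hm : ∀ {i i' j j' : ℤ}, i ≤ i' → j ≤ j' → f i' j' ≤ f i j := fun hi hj => by
    have := finite_van2 (V := V) (D := D) (P := P) (Q := Q)
    exact Submodule.finrank_mono (van2_mono hi hj)
  have s1 := van2_step_left (V := V) (D := D) (P := P) (Q := Q) hK (a - 1) (b - 1)
  have s2 := van2_step_right (V := V) (D := D) (P := P) (Q := Q) hK (a - 1) (b - 1)
  have s3 := van2_step_right (V := V) (D := D) (P := P) (Q := Q) hK a b
  rw [sub_add_cancel] at s1
  rw [sub_add_cancel] at s2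
  change f (a - 1) (b - 1) ≤ f a (b - 1) + 1 at s1
  change f (a - 1) (b - 1) ≤ f (a - 1) b + 1 at s2
  change f a b ≤ f a (b + 1) + 1 at s3
  have m1 : f a b ≤ f (a - 1) b := hm (by omega) le_rfl
  have key1 : 2 ≤ f a (b - 1) → 2 ≤ f (a - 1) b → f (a - 1) (b - 1) ≤ 2 → 2 ≤ f a b := by
    intro h1 h2 h3
    have := finite_van2 (V := V) (D := D) (P := P) (Q := Q)
    have e1 := Submodule.eq_of_le_of_finrank_le
      (van2_mono (V := V) (D := D) (P := P) (Q := Q) (show a - 1 ≤ a by omega) (le_refl (b - 1))) (h3.trans h1)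
    have e2 := Submodule.eq_of_le_of_finrank_le
      (van2_mono (V := V) (D := D) (P := P) (Q := Q) (le_refl (a - 1)) (show b - 1 ≤ b by omega)) (h3.trans h2)
    have e := van2_inf (V := V) (D := D) hPQ (i := a) (j := b - 1) (i' := a - 1) (j' := b)
    rw [e1, e2, inf_idem, max_eq_left (show a - 1 ≤ a by omega), max_eq_right (show b - 1 ≤ b by omega)] at e
    show 2 ≤ finrank k ↥(van2 V D P Q a b)
    rw [← e, ← e2]
    exact h2
  have key2 : 1 ≤ f a (b + 1) → 1 ≤ f (a + 1) b → f a b ≤ 1 → 1 ≤ f (a + 1) (b + 1) := by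
    intro h1 h2 h3
    have := finite_van2 (V := V) (D := D) (P := P) (Q := Q)
    have e1 := Submodule.eq_of_le_of_finrank_le
      (van2_mono (V := V) (D := D) (P := P) (Q := Q) (le_refl a) (show b ≤ b + 1 by omega)) (h3.trans h1)
    have e2 := Submodule.eq_of_le_of_finrank_le
      (van2_mono (V := V) (D := D) (P := P) (Q := Q) (show a ≤ a + 1 by omega) (le_refl b)) (h3.trans h2)
    have e := van2_inf (V := V) (D := D) hPQ (i := a) (j := b + 1) (i' := a + 1) (j' := b)
    rw [e1, e2, inf_idem, max_eq_right (show a ≤ a + 1 by omega), max_eq_left (show b ≤ b + 1 by omega)] at e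
    show 1 ≤ finrank k ↥(van2 V D P Q (a + 1) (b + 1))
    rw [← e, ← e2]
    exact h2
  constructor
  · rintro ⟨h1, h2⟩
    rcases h1 with h1 | h1 <;> rcases h2 with h2 | h2
    · by_cases h : 3 ≤ f (a - 1) (b - 1)
      · exact Or.inr (Or.inl h)
      · have := key1 h1 h2 (by omega)
        exact Or.inr (Or.inr (Or.inl ⟨by omega, h2⟩))
    · exact Or.inr (Or.inr (Or.inr ⟨h2, h1⟩))
    · exact Or.inr (Or.inr (Or.inl ⟨h1, h2⟩))
    · by_cases h : f a b ≤ 1
      · exact Or.inl (key2 h1 h2 h)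
      · exact Or.inr (Or.inr (Or.inl ⟨h1, by omega⟩))
  · rintro (h | h | ⟨h1, h2⟩ | ⟨h1, h2⟩)
    · have n1 : f (a + 1) (b + 1) ≤ f a (b + 1) := hm (by omega) le_rfl
      have n2 : f (a + 1) (b + 1) ≤ f (a + 1) b := hm le_rfl (by omega)
      exact ⟨Or.inr (by omega), Or.inr (by omega)⟩
    · exact ⟨Or.inl (by omega), Or.inl (by omega)⟩
    · exact ⟨Or.inr h1, Or.inl h2⟩
    · exact ⟨Or.inl h2, Or.inr h1⟩

end Groth.Agent.LLS31
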