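import Groth.Agent.LLS31.GenusOne
import Mathlib.FieldTheory.RatFunc.AsPolynomial
import Mathlib.RingTheory.AdjoinRoot
import Mathlib.FieldTheory.Minpoly.Field

/-! Automorphisms of a Weierstrass field. -/

namespace Groth.Agent.LLS31

open FunFld Polynomial IntermediateField

variable {k K : Type*} [Field k] [Field K] [Algebra k K]

/-- Two algebra maps agreeing on generators of the field agree. -/
theorem algHom_ext_of_adjoin_pair {x y : K} (hxy : adjoin k ({x, y} : Set K) = ⊤)
    {f g : K →ₐ[k] K} (hx : f x = g x) (hy : f y = g y) : f = g := by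
  ext z
  have hz : z ∈ adjoin k ({x, y} : Set K) := hxy ▸ mem_top
  induction hz using IntermediateField.adjoin_induction with
  | mem w hw =>
    rcases hw with rfl | hw
    · exact hx
    · rw [Set.mem_singleton_iff] at hw; subst hw; exact hy
  | algebraMap c => simp
  | add a b _ _ ha hb => rw [map_add, map_add, ha, hb]
  | inv a _ ha => rw [map_inv₀, map_inv₀, ha]
  | mul a b _ _ ha hb => rw [map_mul, map_mul, ha, hb]

theorem ord_aeval_even {P : Place k K} {x : K} (hx2 : P.ord x = -2) (p : k[X]) (hp : p ≠ 0) :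
    P.ord (aeval x p) = -2 * p.natDegree := by
  classical
  have hx0 : x ≠ 0 := by rintro rfl; rw [FF30.ord_zero] at hx2; omega
  have hvx : P.1 x = WithZero.exp (2 : ℤ) := by rw [FF30.val_eq P hx0, hx2]; rfl
  have hterm : ∀ i, p.coeff i ≠ 0 →
      P.1 (p.coeff i • x ^ i) = WithZero.exp (2 * i : ℤ) := fun i hi => by
    rw [FF30.val_smul P hi, map_pow, hvx, ← WithZero.exp_nsmul, nsmul_eq_mul, mul_comm]
  have hv : P.1 (aeval x p) = WithZero.exp (2 * p.natDegree : ℤ) := by
    rw [aeval_eq_sum_range, ← hterm p.natDegree (leadingCoeff_ne_zero.2 hp)]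
    refine P.1.map_sum_eq_of_lt (Finset.mem_range.2 (Nat.lt_succ_self _)) fun i hi => ?_
    simp only [Finset.mem_sdiff, Finset.mem_range, Finset.mem_singleton] at hi
    rw [hterm p.natDegree (leadingCoeff_ne_zero.2 hp)]
    rcases eq_or_ne (p.coeff i) 0 with h | h
    · rw [h, zero_smul, map_zero]; exact WithZero.exp_pos
    · rw [hterm i h, WithZero.exp_lt_exp]; omega
  rw [FF30.ord_eq_of_val_eq P hv]
  ring

theorem transcendental_of_pole {P : Place k K} {x : K} (h : P.ord x ≠ 0) : Transcendental k x :=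
  FF30.transcendental_of_ord_ne_zero P h

theorem minpoly_y {P : Place k K} {x y : K} {a b : k} (hx2 : P.ord x = -2) (hy3 : P.ord y = -3)
    (heq : y ^ 2 = x ^ 3 + algebraMap k K a * x + algebraMap k K b) :
    minpoly k⟮x⟯ y = X ^ 2 - C ((AdjoinSimple.gen k x) ^ 3 +
      algebraMap k k⟮x⟯ a * AdjoinSimple.gen k x + algebraMap k k⟮x⟯ b) := by
  set f : k⟮x⟯ := (AdjoinSimple.gen k x) ^ 3 + algebraMap k k⟮x⟯ a * AdjoinSimple.gen k x +
    algebraMap k k⟮x⟯ b with hf
  have hroot : aeval y (X ^ 2 - C f : k⟮x⟯[X]) = 0 := by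
    rw [map_sub, map_pow, aeval_X, aeval_C, sub_eq_zero, heq, hf]
    simp only [map_add, map_mul, map_pow, AdjoinSimple.algebraMap_gen, ← IsScalarTower.algebraMap_apply]
  have hmon : (X ^ 2 - C f : k⟮x⟯[X]).Monic := monic_X_pow_sub_C f two_ne_zero
  have hint : IsIntegral k⟮x⟯ y := ⟨_, hmon, by rwa [← aeval_def]⟩
  have hnot : y ∉ k⟮x⟯ := by
    intro hmem
    obtain ⟨r, s, hrs⟩ := (mem_adjoin_simple_iff k y).1 hmem
    have hy0 : y ≠ 0 := by rintro rfl; rw [FF30.ord_zero] at hy3; omega
    have hr : r ≠ 0 := by rintro rfl; simp at hrs; exact hy0 hrs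
    have hs : s ≠ 0 := by rintro rfl; simp at hrs; exact hy0 hrs
    have htr := transcendental_of_pole (P := P) (x := x) (by rw [hx2]; omega)
    rw [hrs, FF30.ord_div P (fun h => hr (transcendental_iff.1 htr r h))
      (fun h => hs (transcendental_iff.1 htr s h)), ord_aeval_even hx2 r hr, ord_aeval_even hx2 s hs] at hy3
    omega
  refine (eq_of_monic_of_dvd_of_natDegree_le (minpoly.monic hint) hmon
    (minpoly.dvd _ _ hroot) ?_).symm
  rw [natDegree_X_pow_sub_C]
  have h1 : 0 < (minpoly k⟮x⟯ y).natDegree := minpoly.natDegree_pos hint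
  by_contra h2
  have : (minpoly k⟮x⟯ y).natDegree = 1 := by omega
  obtain ⟨c, hc⟩ := minpoly.natDegree_eq_one_iff.1 this
  exact hnot (hc ▸ c.2)

theorem exists_algHom {P : Place k K} {x y : K} {a b : k} (hx2 : P.ord x = -2) (hy3 : P.ord y = -3)
    (heq : y ^ 2 = x ^ 3 + algebraMap k K a * x + algebraMap k K b)
    (hxy : adjoin k ({x, y} : Set K) = ⊤) {u : k} (hu : u ≠ 0) (hua : a * (u ^ 4 - 1) = 0)
    (hub : b * (u ^ 6 - 1) = 0) :
    ∃ σ : K ≃ₐ[k] K, σ x = algebraMap k K (u ^ 2) * x ∧ σ y = algebraMap k K (u ^ 3) * y := by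
  have htr := transcendental_of_pole (P := P) (x := x) (by rw [hx2]; omega)
  have hu2 : algebraMap k K (u ^ 2) ≠ 0 := (_root_.map_ne_zero _).2 (pow_ne_zero _ hu)
  have hu3 : algebraMap k K (u ^ 3) ≠ 0 := (_root_.map_ne_zero _).2 (pow_ne_zero _ hu)
  have hx0 : x ≠ 0 := by rintro rfl; rw [FF30.ord_zero] at hx2; omega
  have htr' : Transcendental k (algebraMap k K (u ^ 2) * x) :=
    transcendental_of_pole (P := P) (by
      rw [FF30.ord_mul P hu2 hx0, FF30.ord_algebraMap, hx2]; omega)
  let φ : k⟮x⟯ →ₐ[k] K := (IntermediateField.val _).comp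
    ((RatFunc.algEquivOfTranscendental x htr).symm.trans
      (RatFunc.algEquivOfTranscendental _ htr')).toAlgHom
  have hφx : φ (AdjoinSimple.gen k x) = algebraMap k K (u ^ 2) * x := by
    show ((RatFunc.algEquivOfTranscendental _ htr') ((RatFunc.algEquivOfTranscendental x htr).symm
      (AdjoinSimple.gen k x)) : K) = _
    rw [RatFunc.algEquivOfTranscendental_symm_gen, RatFunc.algEquivOfTranscendental_X]
  have hmp := minpoly_y hx2 hy3 heq
  set p := minpoly k⟮x⟯ y
  have hint : IsIntegral k⟮x⟯ y := ⟨p, by rw [hmp]; exact monic_X_pow_sub_C _ two_ne_zero,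
    by rw [← aeval_def]; exact minpoly.aeval _ _⟩
  have hpy : p.eval₂ φ.toRingHom (algebraMap k K (u ^ 3) * y) = 0 := by
    rw [hmp]
    rw [eval₂_sub, eval₂_pow, eval₂_X, eval₂_C]
    simp only [AlgHom.toRingHom_eq_coe, RingHom.coe_coe, map_add, map_mul, map_pow, hφx, AlgHom.commutes]
    rw [mul_pow, heq, sub_eq_zero]
    have ha := congrArg (algebraMap k K) hua
    have hb := congrArg (algebraMap k K) hub
    simp only [map_mul, map_sub, map_pow, map_one, map_zero] at ha hb
    linear_combination (algebraMap k K u ^ 2 * x) * ha + hb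
  let s : AdjoinRoot p →+* K := AdjoinRoot.lift φ.toRingHom _ hpy
  have htop : k⟮x⟯⟮y⟯ = ⊤ := by
    rw [← IntermediateField.restrictScalars_eq_top_iff (K := k), adjoin_simple_adjoin_simple]
    exact hxy
  let e : K ≃ₐ[k⟮x⟯] AdjoinRoot p := (IntermediateField.topEquiv.symm.trans
    (IntermediateField.equivOfEq htop.symm)).trans
      (IntermediateField.adjoinRootEquivAdjoin k⟮x⟯ hint).symm
  let σ : K →ₐ[k] K :=
    { s.comp e.toAlgHom.toRingHom with
      commutes' := fun c => by
        show s (e (algebraMap k K c)) = _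
        rw [IsScalarTower.algebraMap_apply k k⟮x⟯ K, e.commutes, AdjoinRoot.algebraMap_eq]
        show AdjoinRoot.lift φ.toRingHom _ hpy (AdjoinRoot.of p _) = _
        rw [AdjoinRoot.lift_of]
        exact (φ.commutes c).trans (IsScalarTower.algebraMap_apply k k⟮x⟯ K c) }
  have hσx : σ x = algebraMap k K (u ^ 2) * x := by
    show s (e (algebraMap k⟮x⟯ K (AdjoinSimple.gen k x))) = _
    rw [e.commutes, AdjoinRoot.algebraMap_eq]
    exact (AdjoinRoot.lift_of hpy).trans hφx
  have hσy : σ y = algebraMap k K (u ^ 3) * y := by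
    show s (e y) = _
    have : e y = AdjoinRoot.root p := by
      apply e.symm.injective
      rw [AlgEquiv.symm_apply_apply]
      show y = IntermediateField.topEquiv (IntermediateField.equivOfEq htop
        (IntermediateField.adjoinRootEquivAdjoin k⟮x⟯ hint (AdjoinRoot.root p)))
      rw [adjoinRootEquivAdjoin_apply_root]
      rfl
    rw [this]
    exact AdjoinRoot.lift_root hpy
  have hbij : Function.Bijective σ := by
    refine ⟨σ.toRingHom.injective, fun z => ?_⟩
    have : σ.fieldRange = ⊤ := by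
      rw [eq_top_iff, ← hxy, adjoin_le_iff]
      rintro w (rfl | hw)
      · refine ⟨algebraMap k K (u ^ 2)⁻¹ * w, ?_⟩
        show σ (_ * w) = w
        rw [map_mul, AlgHom.commutes, hσx, ← mul_assoc, ← map_mul, inv_mul_cancel₀ (pow_ne_zero 2 hu),
          map_one, one_mul]
      · rw [Set.mem_singleton_iff] at hw
        subst hw
        refine ⟨algebraMap k K (u ^ 3)⁻¹ * w, ?_⟩
        show σ (_ * w) = w
        rw [map_mul, AlgHom.commutes, hσy, ← mul_assoc, ← map_mul, inv_mul_cancel₀ (pow_ne_zero 3 hu),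
          map_one, one_mul]
    exact AlgHom.mem_fieldRange.1 (this ▸ mem_top)
  exact ⟨AlgEquiv.ofBijective σ hbij, hσx, hσy⟩

/-- An automorphism rescaling `x` fixes the unique pole of `x`. -/
theorem val_eq_of_scale {P : Place k K} {x : K} (hx : x ∈ L (Finsupp.single P 2)) (hx2 : P.ord x = -2)
    (σ : K ≃ₐ[k] K) {c : k} (hc : c ≠ 0) (hσ : σ x = algebraMap k K c * x) (z : K) :
    P.1 (σ z) = P.1 z := by
  classical
  let Q : Place k K := ⟨P.1.comap σ.toRingEquiv.toRingHom,
    fun d => by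
      show P.1 (σ (algebraMap k K d)) ≤ 1
      rw [σ.commutes]; exact P.2.1 d,
    fun n => by
      obtain ⟨w, hw⟩ := P.2.2 n
      exact ⟨σ.symm w, show P.1 (σ (σ.symm w)) = n by rw [σ.apply_symm_apply, hw]⟩⟩
  have hQx : Q.1 x = P.1 x := by
    show P.1 (σ x) = _
    rw [hσ, map_mul, FF30.val_algebraMap P hc, one_mul]
  have hQP : Q = P := by
    by_contra hne
    have h1 := hx Q
    rw [Finsupp.single_eq_of_ne hne, WithZero.exp_zero, hQx] at h1
    rw [FF30.val_le_one_iff, hx2] at h1
    omega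
  show Q.1 z = P.1 z
  rw [hQP]

/-- An automorphism fixing `P` keeps `L (n P)`. -/
theorem map_mem_L_single {P : Place k K} {n : ℤ} (σ : K ≃ₐ[k] K) (hσ : ∀ z, P.1 (σ z) = P.1 z)
    {z : K} (hz : z ∈ L (Finsupp.single P n)) : σ z ∈ L (Finsupp.single P n) := by
  classical
  intro R
  rcases eq_or_ne R P with rfl | hR
  · rw [hσ]; exact hz R
  let Q : Place k K := ⟨R.1.comap σ.toRingEquiv.toRingHom,
    fun d => by
      show R.1 (σ (algebraMap k K d)) ≤ 1
      rw [σ.commutes]; exact R.2.1 d,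
    fun n => by
      obtain ⟨w, hw⟩ := R.2.2 n
      exact ⟨σ.symm w, show R.1 (σ (σ.symm w)) = n by rw [σ.apply_symm_apply, hw]⟩⟩
  have hQ : Q ≠ P := by
    intro h
    refine hR (FF30.eq_of_val_le_one_imp fun w hw => ?_)
    have h1 : R.1 (σ (σ.symm w)) = P.1 (σ.symm w) := congrArg (fun T : Place k K => T.1 (σ.symm w)) h
    rw [σ.apply_symm_apply, ← hσ (σ.symm w), σ.apply_symm_apply] at h1
    rwa [← h1]
  have := hz Q
  rw [Finsupp.single_eq_of_ne hQ] at this
  rw [Finsupp.single_eq_of_ne hR]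
  exact this

theorem exists_scale {P : Place k K} {x y : K} {a b : k} (h2 : (2 : k) ≠ 0) (h3 : (3 : k) ≠ 0)
    (hK : IsFunctionField k K) (hgen : genus k K = 1) (hP : P.deg = 1)
    (heq : y ^ 2 = x ^ 3 + algebraMap k K a * x + algebraMap k K b)
    (hx : x ∈ L (Finsupp.single P 2)) (hx2 : P.ord x = -2)
    (hy : y ∈ L (Finsupp.single P 3)) (hy3 : P.ord y = -3)
    (σ : K ≃ₐ[k] K) (hσ : ∀ z, P.1 (σ z) = P.1 z) :
    ∃ u : k, (a * (u ^ 4 - 1) = 0 ∧ b * (u ^ 6 - 1) = 0) ∧
      σ x = algebraMap k K (u ^ 2) * x ∧ σ y = algebraMap k K (u ^ 3) * y := by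
  classical
  have hx0 : x ≠ 0 := by rintro rfl; rw [FF30.ord_zero] at hx2; omega
  have hy0 : y ≠ 0 := by rintro rfl; rw [FF30.ord_zero] at hy3; omega
  let A : k → K := algebraMap k K
  have basis : ∀ c : Fin 6 → k,
      A (c 0) + A (c 1) * x + A (c 2) * x ^ 2 + A (c 3) * x ^ 3 + A (c 4) * y + A (c 5) * (x * y) = 0 →
      c = 0 := by
    intro c hc
    let v : Fin 6 → K := ![1, x, x ^ 2, x ^ 3, y, x * y]
    have hord : ∀ i, P.ord (v i) = ![0, -2, -4, -6, -3, -5] i := by
      intro i
      fin_cases i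
      · exact FF30.ord_one P
      · exact hx2
      · show P.ord (x ^ 2) = -4; rw [FF30.ord_pow, hx2]; norm_num
      · show P.ord (x ^ 3) = -6; rw [FF30.ord_pow, hx2]; norm_num
      · exact hy3
      · show P.ord (x * y) = -5; rw [FF30.ord_mul P hx0 hy0, hx2, hy3]; norm_num
    have hne : ∀ i, v i ≠ 0 := by
      intro i
      fin_cases i
      exacts [one_ne_zero, hx0, pow_ne_zero _ hx0, pow_ne_zero _ hx0, hy0, mul_ne_zero hx0 hy0]
    have hli := linearIndependent_of_injective_val P v hne fun i j hij => by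
      simp only [FF30.val_eq P (hne i), FF30.val_eq P (hne j), WithZero.exp_inj, neg_inj, hord] at hij
      revert hij
      fin_cases i <;> fin_cases j <;> simp
    funext i
    refine Fintype.linearIndependent_iff.1 hli c ?_ i
    simp only [Fin.sum_univ_six, Algebra.smul_def]
    show A (c 0) * 1 + A (c 1) * x + A (c 2) * x ^ 2 + A (c 3) * x ^ 3 + A (c 4) * y + A (c 5) * (x * y) = 0
    rw [mul_one]; exact hc
  have hmem : ∀ (n : ℕ), 2 ≤ n → L (Finsupp.single P (n : ℤ)) =
      Submodule.span k (Set.range (Sum.elim (fun i : Fin (n / 2 + 1) => x ^ (i : ℕ))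
        (fun i : Fin ((n - 1) / 2) => x ^ (i : ℕ) * y))) := fun n hn => by
    set v := Sum.elim (fun i : Fin (n / 2 + 1) => x ^ (i : ℕ))
      (fun i : Fin ((n - 1) / 2) => x ^ (i : ℕ) * y)
    have hvne : ∀ i, v i ≠ 0 := by
      rintro (i | i)
      exacts [pow_ne_zero _ hx0, mul_ne_zero (pow_ne_zero _ hx0) hy0]
    have hord : ∀ i, P.ord (v i) = Sum.elim (fun i : Fin (n / 2 + 1) => -(2 * (i : ℕ) : ℤ))
        (fun i : Fin ((n - 1) / 2) => -(2 * (i : ℕ) : ℤ) - 3) i := by
      rintro (i | i)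
      · show P.ord (x ^ (i : ℕ)) = _
        rw [FF30.ord_pow, hx2]; simp; ring
      · show P.ord (x ^ (i : ℕ) * y) = _
        rw [FF30.ord_mul P (pow_ne_zero _ hx0) hy0, FF30.ord_pow, hx2, hy3]
        simp; ring
    have hli := linearIndependent_of_injective_val P v hvne fun i j hij => by
      simp only [FF30.val_eq P (hvne i), FF30.val_eq P (hvne j), WithZero.exp_inj, neg_inj, hord] at hij
      rcases i with i | i <;> rcases j with j | j <;> simp only [Sum.elim_inl, Sum.elim_inr] at hij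
      · exact congrArg Sum.inl (Fin.ext (by omega))
      · omega
      · omega
      · exact congrArg Sum.inr (Fin.ext (by omega))
    have := (FF30.FF.of_isFunctionField hK).finite_L (Finsupp.single P (n : ℤ))
    refine (Submodule.eq_of_le_of_finrank_le ?_ ?_).symm
    · rw [Submodule.span_le]
      rintro _ ⟨i, rfl⟩ R
      rcases eq_or_ne R P with rfl | hR
      · rw [FF30.val_eq R (hvne i), hord, WithZero.exp_le_exp, Finsupp.single_eq_same]
        rcases i with i | i <;> simp only [Sum.elim_inl, Sum.elim_inr] <;> have := i.2 <;> omega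
      · have h1 : R.1 x ≤ 1 := by simpa [Finsupp.single_eq_of_ne hR] using hx R
        have h2 : R.1 y ≤ 1 := by simpa [Finsupp.single_eq_of_ne hR] using hy R
        rw [Finsupp.single_eq_of_ne hR, WithZero.exp_zero]
        rcases i with i | i
        · show R.1 (x ^ (i : ℕ)) ≤ 1
          rw [map_pow]; exact pow_le_one₀ zero_le h1
        · show R.1 (x ^ (i : ℕ) * y) ≤ 1
          rw [map_mul, map_pow]; exact mul_le_one' (pow_le_one₀ zero_le h1) h2
    · have hell := ell_of_genus_one hK hgen (D := Finsupp.single P (n : ℤ))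
        (by rw [deg_single, hP]; omega)
      rw [deg_single, hP] at hell
      rw [finrank_span_eq_card hli, Fintype.card_sum, Fintype.card_fin, Fintype.card_fin]
      omega
  obtain ⟨al, be, hal⟩ : ∃ al be : k, σ x = A al * x + A be := by
    have h := map_mem_L_single σ hσ hx
    rw [show (2 : ℤ) = ((2 : ℕ) : ℤ) from rfl, hmem 2 le_rfl, Submodule.mem_span_range_iff_exists_fun] at h
    obtain ⟨c, hc⟩ := h
    refine ⟨c (Sum.inl 1), c (Sum.inl 0), ?_⟩
    rw [← hc]
    simp [Fintype.sum_sum_type, Fin.sum_univ_two, Algebra.smul_def, A]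
    ring
  obtain ⟨ga, de, ep, hga⟩ : ∃ ga de ep : k, σ y = A ga * y + A de * x + A ep := by
    have h := map_mem_L_single σ hσ hy
    rw [show (3 : ℤ) = ((3 : ℕ) : ℤ) from rfl, hmem 3 (by omega), Submodule.mem_span_range_iff_exists_fun] at h
    obtain ⟨c, hc⟩ := h
    refine ⟨c (Sum.inr 0), c (Sum.inl 1), c (Sum.inl 0), ?_⟩
    rw [← hc]
    simp [Fintype.sum_sum_type, Fin.sum_univ_two, Algebra.smul_def, A]
    ring
  have hσeq : σ y ^ 2 = σ x ^ 3 + A a * σ x + A b := by
    have := congrArg σ heq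
    simpa [A] using this
  rw [hal, hga] at hσeq
  have hzero := basis ![ga ^ 2 * b + ep ^ 2 - (be ^ 3 + a * be + b),
    ga ^ 2 * a + 2 * de * ep - (3 * al * be ^ 2 + a * al), de ^ 2 - 3 * al ^ 2 * be,
    ga ^ 2 - al ^ 3, 2 * ga * ep, 2 * ga * de] (by
      simp only [A, Matrix.cons_val, map_sub, map_add, map_mul, map_pow, map_ofNat]
      simp only [A] at hσeq
      linear_combination hσeq - (algebraMap k K ga) ^ 2 * heq)
  have e0 := congrFun hzero 0
  have e1 := congrFun hzero 1
  have e2 := congrFun hzero 2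
  have e3 := congrFun hzero 3
  have e4 := congrFun hzero 4
  have e5 := congrFun hzero 5
  simp only [Matrix.cons_val, Pi.zero_apply, sub_eq_zero] at e0 e1 e2 e3 e4 e5
  have hal0 : al ≠ 0 := by
    intro h0
    have h := hσ x
    rw [hal, h0] at h
    simp only [A, map_zero, zero_mul, zero_add] at h
    have h' := FF30.val_le_one_iff (P := P) (x := x)
    rw [← h, hx2] at h'
    exact absurd (h'.1 (P.2.1 be)) (by omega)
  have hga0 : ga ≠ 0 := fun h0 => hal0 (pow_eq_zero_iff (n := 3) (by norm_num) |>.1 (by rw [← e3, h0]; ring))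
  have hep : ep = 0 := by simpa [h2, hga0] using e4
  have hde : de = 0 := by simpa [h2, hga0] using e5
  subst hep hde
  have hbe : be = 0 := by
    have : 3 * al ^ 2 * be = 0 := by linear_combination -e2
    simpa [h3, hal0] using this
  subst hbe
  refine ⟨ga / al, ⟨?_, ?_⟩, ?_, ?_⟩
  · have : a * (ga ^ 2 - al) = 0 := by linear_combination e1
    field_simp
    linear_combination (al ^ 3) * this + (a * ga ^ 2) * e3
  · have : b * (ga ^ 2 - 1) = 0 := by linear_combination e0
    field_simp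
    linear_combination al ^ 6 * this + (b * ga ^ 2 * (ga ^ 2 + al ^ 3)) * e3
  · have : (ga / al) ^ 2 = al := by field_simp; linear_combination e3
    rw [this, hal]
    simp [A]
  · have : (ga / al) ^ 3 = ga := by field_simp; linear_combination e3
    rw [this, hga]
    simp [A]

end Groth.Agent.LLS31
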